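import Groth.Agent.H81.SymProd.Ring
import Groth.Agent.Lib.PolLaw.GammaTS
import Groth.Agent.Lib.PolLaw.FlatFibre

/-!
Affine boxes `∏ U_i` in fibre powers, and their flatness, with invariants under the stabiliser of the index function.
-/

set_option autoImplicit false
set_option linter.style.haveILetI false
universe u

open CategoryTheory CategoryTheory.Limits AlgebraicGeometry TopologicalSpace
open scoped TensorProduct

namespace Groth.Agent.H81.SymProd2.Box

open Groth.Agent.H81.SymProd.Chart (pr base perm_apply)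
open Groth.Agent.Lib.PolLaw

variable {X S : Scheme.{u}} (f : X ⟶ S) {d : ℕ}

/-- The open `⋂ pr_i⁻¹ U_i`. -/
noncomputable def box (U : Fin d → X.Opens) : (SymProd.fibPow f d).Opens :=
  ⟨⋂ i : Fin d, (pr f d i) ⁻¹' (U i : Set X), isOpen_iInter_of_finite fun i => (U i).2.preimage (pr f d i).continuous⟩

theorem mem_box {U : Fin d → X.Opens} {x : SymProd.fibPow f d} : x ∈ box f U ↔ ∀ i, pr f d i x ∈ U i :=
  Set.mem_iInter

theorem box_le_pr (U : Fin d → X.Opens) (i : Fin d) : box f U ≤ pr f d i ⁻¹ᵁ U i := fun _ hx => (mem_box f).1 hx i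

theorem box_le_base (hd : 0 < d) {U : Fin d → X.Opens} {V : S.Opens} (hUV : ∀ i, U i ≤ f ⁻¹ᵁ V) :
    box f U ≤ base f d ⁻¹ᵁ V := fun x hx => by
  change base f d x ∈ V
  rw [show base f d = pr f d ⟨0, hd⟩ ≫ f from (WidePullback.π_arrow _ _).symm, Scheme.Hom.comp_apply]
  exact hUV _ ((mem_box f).1 hx _)

theorem box_stable {U : Fin d → X.Opens} (σ : Equiv.Perm (Fin d)) (hσ : ∀ i, U (σ i) = U i) :
    box f U ≤ (SymProd.permHom f d σ) ⁻¹ᵁ box f U := fun x hx => (mem_box f).2 fun i => by
  have := (mem_box f).1 hx (σ.symm i)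
  have e : U i = U (σ.symm i) := by simpa using hσ (σ.symm i)
  show pr f d i (SymProd.permHom f d σ x) ∈ U i
  rw [perm_apply, e]
  exact this

theorem isAffineOpen_box {U : Fin d → X.Opens} (hU : ∀ i, IsAffineOpen (U i)) {V : S.Opens} (hV : IsAffineOpen V)
    (hUV : ∀ i, U i ≤ f ⁻¹ᵁ V) (hd : 0 < d) : IsAffineOpen (box f U) := by
  have hb : Set.range ((box f U).ι ≫ base f d) ⊆ Set.range V.ι := by
    rw [Scheme.Opens.range_ι]
    rintro _ ⟨z, rfl⟩
    exact box_le_base f hd hUV z.2
  have hp : ∀ i, Set.range ((box f U).ι ≫ pr f d i) ⊆ Set.range (U i).ι := fun i => by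
    rw [Scheme.Opens.range_ι]
    rintro _ ⟨z, rfl⟩
    exact (mem_box f).1 z.2 i
  let fU : ∀ i, (U i).toScheme ⟶ V.toScheme := fun i => f.resLE V (U i) (hUV i)
  let a : (box f U).toScheme ⟶ widePullback V.toScheme (fun i : Fin d => (U i).toScheme) fU :=
    WidePullback.lift (IsOpenImmersion.lift V.ι _ hb) (fun i => IsOpenImmersion.lift (U i).ι _ (hp i))
      (fun i => by
        rw [← cancel_mono V.ι, Category.assoc, Scheme.Hom.resLE_comp_ι, IsOpenImmersion.lift_fac_assoc,
          IsOpenImmersion.lift_fac, Category.assoc, WidePullback.π_arrow])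
  let b₀ : widePullback V.toScheme (fun i : Fin d => (U i).toScheme) fU ⟶ SymProd.fibPow f d :=
    WidePullback.lift (WidePullback.base _ ≫ V.ι) (fun i => WidePullback.π _ i ≫ (U i).ι) (fun i => by
      rw [Category.assoc, ← Scheme.Hom.resLE_comp_ι f (hUV i), ← Category.assoc, WidePullback.π_arrow])
  have hb₀ : Set.range b₀ ⊆ Set.range (box f U).ι := by
    rw [Scheme.Opens.range_ι]
    rintro _ ⟨z, rfl⟩
    refine (mem_box f).2 fun i => ?_
    rw [← Scheme.Hom.comp_apply, WidePullback.lift_π]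
    exact (WidePullback.π fU i z).2
  let b := IsOpenImmersion.lift (box f U).ι b₀ hb₀
  have hbfac : b ≫ (box f U).ι = b₀ := IsOpenImmersion.lift_fac _ _ _
  have hab : a ≫ b = 𝟙 _ := by
    rw [← cancel_mono (box f U).ι, Category.assoc, hbfac, Category.id_comp]
    refine WidePullback.hom_ext _ _ _ (fun i => ?_) ?_
    · rw [Category.assoc, WidePullback.lift_π, WidePullback.lift_π_assoc, IsOpenImmersion.lift_fac]
    · rw [Category.assoc, WidePullback.lift_base, WidePullback.lift_base_assoc, IsOpenImmersion.lift_fac]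
  have hba : b ≫ a = 𝟙 _ := by
    refine WidePullback.hom_ext _ _ _ (fun i => ?_) ?_
    · rw [← cancel_mono (U i).ι, Category.assoc, Category.assoc, WidePullback.lift_π_assoc, IsOpenImmersion.lift_fac,
        reassoc_of% hbfac, WidePullback.lift_π, Category.id_comp]
    · rw [← cancel_mono V.ι, Category.assoc, Category.assoc, WidePullback.lift_base_assoc, IsOpenImmersion.lift_fac,
        reassoc_of% hbfac, WidePullback.lift_base, Category.id_comp]
  have : ∀ i, IsAffine ((WidePullbackShape.wideCospan V.toScheme (fun i : Fin d => (U i).toScheme) fU).obj i) :=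
    fun i => by
      cases i
      · exact hV
      · exact hU _
  have : IsAffine (widePullback V.toScheme (fun i : Fin d => (U i).toScheme) fU) :=
    Scheme.isAffine_of_isLimit _ (limit.isLimit _)
  have : IsIso a := ⟨b, hab, hba⟩
  exact IsAffine.of_isIso a

section Ring

variable {R : Type u} [CommRing R] {M : Fin d → Type u} [∀ i, CommRing (M i)] [∀ i, Algebra R (M i)]
  {C : Type u} [CommRing C] [Algebra R C]

/-- The map out of a tensor product of algebras. -/
noncomputable def lift (p : ∀ i, M i →ₐ[R] C) : (⨂[R] i, M i) →ₐ[R] C :=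
  PiTensorProduct.liftAlgHom ((MultilinearMap.mkPiAlgebra R (Fin d) C).compLinearMap fun i => (p i).toLinearMap)
    (by simp) (fun x y => by simp [Finset.prod_mul_distrib])

theorem lift_tprod (p : ∀ i, M i →ₐ[R] C) (b : ∀ i, M i) : lift p (PiTensorProduct.tprod R b) = ∏ i, p i (b i) := by
  simp [lift, PiTensorProduct.liftAlgHom]

theorem lift_single (p : ∀ i, M i →ₐ[R] C) (i : Fin d) (b : M i) :
    lift p (PiTensorProduct.singleAlgHom i b) = p i b := by
  rw [PiTensorProduct.singleAlgHom_apply, lift_tprod, Finset.prod_eq_single i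
    (fun j _ hj => by simp [MonoidHom.mulSingle_apply, hj]) (by simp)]
  simp [MonoidHom.mulSingle_apply]

end Ring

section Sections

variable (hd : 0 < d) {U : Fin d → X.Opens} (hU : ∀ i, IsAffineOpen (U i)) {V : S.Opens} (hV : IsAffineOpen V)
  (hUV : ∀ i, U i ≤ f ⁻¹ᵁ V)

set_option maxHeartbeats 800000 in
include hU hV in
/-- The sections on a box are the tensor product of the sections on the factors. -/
theorem lift_bijective [∀ i, Algebra Γ(S, V) Γ(X, U i)]
    (halg : ∀ i, algebraMap Γ(S, V) Γ(X, U i) = (f.appLE V (U i) (hUV i)).hom)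
    [Algebra Γ(S, V) Γ(SymProd.fibPow f d, box f U)]
    (halgC : algebraMap Γ(S, V) Γ(SymProd.fibPow f d, box f U) =
      ((base f d).appLE V (box f U) (box_le_base f hd hUV)).hom)
    (p : ∀ i, Γ(X, U i) →ₐ[Γ(S, V)] Γ(SymProd.fibPow f d, box f U))
    (hp : ∀ i b, p i b = (pr f d i).appLE (U i) (box f U) (box_le_pr f U i) b) :
    Function.Bijective (lift p) := by
  have haff := isAffineOpen_box f hU hV hUV hd
  have hle := box_le_base f hd hUV
  let T : CommRingCat.{u} := CommRingCat.of (⨂[Γ(S, V)] i, Γ(X, U i))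
  let φ : T ⟶ Γ(SymProd.fibPow f d, box f U) := CommRingCat.ofHom (lift p).toRingHom
  let si : ∀ i, (Γ(X, U i) ⟶ T) := fun i => CommRingCat.ofHom
    (PiTensorProduct.singleAlgHom (R := Γ(S, V)) (A := fun i => Γ(X, U i)) i).toRingHom
  let st : Γ(S, V) ⟶ T := CommRingCat.ofHom (algebraMap Γ(S, V) _)
  have hst : ∀ i, f.appLE V (U i) (hUV i) ≫ si i = st := fun i => CommRingCat.hom_ext <| RingHom.ext fun r => by
    show PiTensorProduct.singleAlgHom (R := Γ(S, V)) (A := fun i => Γ(X, U i)) i
      ((f.appLE V (U i) (hUV i)).hom r) = algebraMap Γ(S, V) _ r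
    rw [← halg i, AlgHom.commutes]
  have hsi : ∀ i, si i ≫ φ = (pr f d i).appLE (U i) (box f U) (box_le_pr f U i) := fun i =>
    CommRingCat.hom_ext <| RingHom.ext fun b => (lift_single p i b).trans (hp i b)
  have hstφ : st ≫ φ = (base f d).appLE V (box f U) hle :=
    CommRingCat.hom_ext <| RingHom.ext fun r => ((lift p).commutes r).trans (congr($(halgC) r))
  let β₀ : Spec T ⟶ SymProd.fibPow f d :=
    WidePullback.lift (Spec.map st ≫ hV.fromSpec) (fun i => Spec.map (si i) ≫ (hU i).fromSpec) (fun i => by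
      rw [Category.assoc, ← hV.SpecMap_appLE_fromSpec f (hU i) (hUV i), ← Spec.map_comp_assoc, hst])
  have hβ₀ : Set.range β₀ ⊆ Set.range (box f U).ι := by
    rw [Scheme.Opens.range_ι]
    rintro _ ⟨z, rfl⟩
    refine (mem_box f).2 fun i => ?_
    rw [← Scheme.Hom.comp_apply, WidePullback.lift_π]
    exact (hU i).range_fromSpec.le ⟨_, rfl⟩
  let β : Spec T ⟶ Spec Γ(SymProd.fibPow f d, box f U) :=
    IsOpenImmersion.lift (box f U).ι β₀ hβ₀ ≫ haff.isoSpec.hom
  have hβ : β ≫ haff.fromSpec = β₀ := by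
    rw [Category.assoc, IsAffineOpen.fromSpec, Iso.hom_inv_id_assoc, IsOpenImmersion.lift_fac]
  obtain ⟨ψ, hψ⟩ : ∃ ψ : Γ(SymProd.fibPow f d, box f U) ⟶ T, Spec.map ψ = β :=
    ⟨Spec.preimage β, Spec.map_preimage β⟩
  have h1 : ψ ≫ φ = 𝟙 _ := Spec.map_injective <| by
    rw [Spec.map_comp, hψ, Spec.map_id, ← cancel_mono haff.fromSpec, Category.assoc, hβ, Category.id_comp]
    refine WidePullback.hom_ext _ _ _ (fun i => ?_) ?_
    · rw [Category.assoc, WidePullback.lift_π, ← Spec.map_comp_assoc, hsi]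
      exact (hU i).SpecMap_appLE_fromSpec (pr f d i) haff _
    · rw [Category.assoc, WidePullback.lift_base, ← Spec.map_comp_assoc, hstφ]
      exact hV.SpecMap_appLE_fromSpec (base f d) haff _
  have hgen : ∀ i, (pr f d i).appLE (U i) (box f U) (box_le_pr f U i) ≫ ψ = si i := fun i =>
    Spec.map_injective <| by
      rw [← cancel_mono (hU i).fromSpec, Spec.map_comp, Category.assoc,
        (hU i).SpecMap_appLE_fromSpec (pr f d i) haff _, hψ, ← Category.assoc, hβ, WidePullback.lift_π]
  have hbase : (base f d).appLE V (box f U) hle ≫ ψ = st := Spec.map_injective <| by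
      rw [← cancel_mono hV.fromSpec, Spec.map_comp, Category.assoc, hV.SpecMap_appLE_fromSpec (base f d) haff _,
        hψ, ← Category.assoc, hβ, WidePullback.lift_base]
  let ψA : Γ(SymProd.fibPow f d, box f U) →ₐ[Γ(S, V)] ⨂[Γ(S, V)] i, Γ(X, U i) :=
    { __ := ψ.hom, commutes' := fun r => by
        show ψ (algebraMap Γ(S, V) Γ(SymProd.fibPow f d, box f U) r) = _
        rw [halgC]
        exact congr($(hbase) r) }
  have h2 : ψA.comp (lift p) = AlgHom.id _ _ := PiTensorProduct.algHom_ext fun i => AlgHom.ext fun b => by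
    show ψ (lift p (PiTensorProduct.singleAlgHom (R := Γ(S, V)) (A := fun i => Γ(X, U i)) i b)) = _
    rw [lift_single, hp, ← CommRingCat.comp_apply, hgen]
    rfl
  exact ⟨Function.LeftInverse.injective (g := ψA) fun t => AlgHom.congr_fun h2 t,
    fun y => ⟨ψ y, congr($(h1) y)⟩⟩

end Sections

end Groth.Agent.H81.SymProd2.Box
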