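import Groth.Agent.H81.SymProd.Chart
import Mathlib.AlgebraicGeometry.Morphisms.Flat

/-!
Invariant sections over stable opens of a fibre power.
-/

set_option autoImplicit false
set_option linter.style.haveILetI false
universe u

open CategoryTheory CategoryTheory.Limits AlgebraicGeometry TopologicalSpace

namespace Groth.Agent.H81.SymProd2.Fix

open Groth.Agent.H81.SymProd.Chart (base)

variable {X S : Scheme.{u}} (f : X ⟶ S) {d : ℕ} (H : Subgroup (Equiv.Perm (Fin d)))

/-- An open is stable under `H`. -/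
def Stable (O : (SymProd.fibPow f d).Opens) : Prop := ∀ σ ∈ H, O ≤ (SymProd.permHom f d σ) ⁻¹ᵁ O

variable {H} {O O' : (SymProd.fibPow f d).Opens} (hO : Stable f H O) (hO' : Stable f H O')

/-- The action on sections. -/
noncomputable def act (σ : Equiv.Perm (Fin d)) (hσ : σ ∈ H) :
    Γ(SymProd.fibPow f d, O) ⟶ Γ(SymProd.fibPow f d, O) :=
  (SymProd.permHom f d σ).appLE O O (hO σ hσ)

/-- The invariant sections. -/
noncomputable def fix : Subring Γ(SymProd.fibPow f d, O) :=
  ⨅ (σ : Equiv.Perm (Fin d)) (hσ : σ ∈ H), RingHom.eqLocus (act f hO σ hσ).hom (RingHom.id _)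

theorem mem_fix {s : Γ(SymProd.fibPow f d, O)} : s ∈ fix f hO ↔ ∀ σ (hσ : σ ∈ H), act f hO σ hσ s = s := by
  simp only [fix, Subring.mem_iInf]
  rfl

theorem act_res (h : O' ≤ O) (σ : Equiv.Perm (Fin d)) (hσ : σ ∈ H) (s : Γ(SymProd.fibPow f d, O)) :
    act f hO' σ hσ ((SymProd.fibPow f d).presheaf.map (homOfLE h).op s) =
      (SymProd.fibPow f d).presheaf.map (homOfLE h).op (act f hO σ hσ s) := by
  rw [← CommRingCat.comp_apply, ← CommRingCat.comp_apply, act, act, Scheme.Hom.map_appLE, Scheme.Hom.appLE_map]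

/-- Restriction of invariant sections. -/
noncomputable def res (h : O' ≤ O) : fix f hO →+* fix f hO' :=
  (((SymProd.fibPow f d).presheaf.map (homOfLE h).op).hom.comp (fix f hO).subtype).codRestrict _ fun s =>
    (mem_fix f hO').2 fun σ hσ => (act_res f hO hO' h σ hσ s.1).trans (congrArg _ ((mem_fix f hO).1 s.2 σ hσ))

/-- The structure map. -/
noncomputable def str {V : S.Opens} (h : O ≤ base f d ⁻¹ᵁ V) : Γ(S, V) →+* fix f hO :=
  ((base f d).appLE V O h).hom.codRestrict _ fun r => (mem_fix f hO).2 fun σ hσ => by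
    rw [act, ← CommRingCat.comp_apply, Scheme.Hom.appLE_comp_appLE]
    simp only [SymProd.permHom_base]

theorem stable_basicOpen {e : Γ(SymProd.fibPow f d, O)} (he : e ∈ fix f hO) :
    Stable f H ((SymProd.fibPow f d).basicOpen e) := fun σ hσ => by
  intro x hx
  rw [← (mem_fix f hO).1 he σ hσ, act, Scheme.basicOpen_appLE] at hx
  exact hx.2

/-- Invariants commute with localisation at an invariant element. -/
theorem isLocalization_res (hOa : IsAffineOpen O) (e : fix f hO) (h : O' ≤ O)
    (hO'e : O' = (SymProd.fibPow f d).basicOpen (e : Γ(SymProd.fibPow f d, O))) :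
    @IsLocalization.Away _ _ e (fix f hO') _ (res f hO hO' h).toAlgebra := by
  letI := (res f hO hO' h).toAlgebra
  let r := ((SymProd.fibPow f d).presheaf.map (homOfLE h).op).hom
  letI := r.toAlgebra
  haveI : IsLocalization.Away e.1 Γ(SymProd.fibPow f d, O') :=
    hOa.isLocalization_of_eq_basicOpen e.1 (homOfLE h) hO'e
  have hu : IsUnit (r e.1) := IsLocalization.Away.algebraMap_isUnit (S := Γ(SymProd.fibPow f d, O')) e.1
  refine IsLocalization.Away.mk e ?_ (fun s => ?_) fun a b hab => ?_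
  · obtain ⟨v, hv⟩ := hu.exists_right_inv
    have hv' : v ∈ fix f hO' := (mem_fix f hO').2 fun σ hσ => hu.mul_left_cancel <| by
      conv_lhs => rw [show r e.1 = act f hO' σ hσ (r e.1) from ((act_res f hO hO' h σ hσ e.1).trans
        (congrArg _ ((mem_fix f hO).1 e.2 σ hσ))).symm]
      rw [← map_mul, hv, map_one]
    exact IsUnit.of_mul_eq_one ⟨v, hv'⟩ (Subtype.ext hv)
  · obtain ⟨n, a, ha⟩ := IsLocalization.Away.surj e.1 (s : Γ(SymProd.fibPow f d, O'))
    have hres : ∀ σ (hσ : σ ∈ H), ∃ m, e.1 ^ m * act f hO σ hσ a = e.1 ^ m * a := fun σ hσ => by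
      refine IsLocalization.Away.exists_of_eq (S := Γ(SymProd.fibPow f d, O')) e.1 ?_
      show r (act f hO σ hσ a) = r a
      refine (act_res f hO hO' h σ hσ a).symm.trans ?_
      show act f hO' σ hσ (r a) = r a
      rw [show r a = (s : Γ(SymProd.fibPow f d, O')) * r e.1 ^ n from ha.symm, map_mul, map_pow,
        (mem_fix f hO').1 s.2 σ hσ, show act f hO' σ hσ (r e.1) = r e.1 from
          (act_res f hO hO' h σ hσ e.1).trans (congrArg _ ((mem_fix f hO).1 e.2 σ hσ))]
    choose m hm using hres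
    classical
    letI : Fintype H := Fintype.ofFinite H
    let N := ∑ σ : H, m σ.1 σ.2
    have hfix : e.1 ^ N * a ∈ fix f hO := (mem_fix f hO).2 fun σ hσ => by
      obtain ⟨j, hj⟩ := Nat.exists_eq_add_of_le
        (Finset.single_le_sum (f := fun σ : H => m σ.1 σ.2) (fun _ _ => Nat.zero_le _)
          (Finset.mem_univ (⟨σ, hσ⟩ : H)))
      rw [map_mul, map_pow, (mem_fix f hO).1 e.2 σ hσ, show N = m σ hσ + j from hj, pow_add, mul_comm (e.1 ^ _),
        mul_assoc, hm, ← mul_assoc, mul_comm (e.1 ^ j)]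
    refine ⟨N + n, ⟨_, hfix⟩, Subtype.ext ?_⟩
    show (s : Γ(SymProd.fibPow f d, O')) * r e.1 ^ (N + n) = r (e.1 ^ N * a)
    rw [map_mul, map_pow, show r a = (s : Γ(SymProd.fibPow f d, O')) * r e.1 ^ n from ha.symm, pow_add]
    ring
  · obtain ⟨n, hn⟩ := IsLocalization.Away.exists_of_eq (S := Γ(SymProd.fibPow f d, O')) e.1
      (congrArg Subtype.val hab : r a.1 = r b.1)
    exact ⟨n, Subtype.ext hn⟩

theorem flat_res (hOa : IsAffineOpen O) (e : fix f hO) (h : O' ≤ O)
    (hO'e : O' = (SymProd.fibPow f d).basicOpen (e : Γ(SymProd.fibPow f d, O))) {V : S.Opens}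
    (hV : O ≤ base f d ⁻¹ᵁ V) (hflat : (str f hO hV).Flat) : (str f hO' (h.trans hV)).Flat := by
  have hcomp : str f hO' (h.trans hV) = (res f hO hO' h).comp (str f hO hV) := RingHom.ext fun r => Subtype.ext <| by
    show (base f d).appLE V O' _ r = (SymProd.fibPow f d).presheaf.map (homOfLE h).op ((base f d).appLE V O hV r)
    rw [← CommRingCat.comp_apply, Scheme.Hom.appLE_map]
  rw [hcomp]
  refine RingHom.Flat.stableUnderComposition _ _ hflat ?_
  letI := (res f hO hO' h).toAlgebra
  haveI := isLocalization_res f hO hO' hOa e h hO'e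
  exact IsLocalization.flat _ (Submonoid.powers e)

end Groth.Agent.H81.SymProd2.Fix
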