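import Mathlib.RingTheory.Flat.Tensor
import Mathlib.RingTheory.Flat.Equalizer
import Mathlib.LinearAlgebra.TensorProduct.Pi

/-!
Fixed elements of tensor products.
-/

set_option autoImplicit false
universe u

open scoped TensorProduct

namespace Groth.Agent.H81.SymProd2.FixTensor

variable {R A M : Type u} [CommRing R] [AddCommGroup A] [Module R A] [AddCommGroup M] [Module R M]

/-- Fixed elements commute with tensoring by a flat module. -/
theorem fixed_of_flat [Module.Flat R M] {ι : Type*} [Fintype ι] [DecidableEq ι] (σ : ι → A →ₗ[R] A)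
    (A₀ : Submodule R A) (hA₀ : ∀ a, a ∈ A₀ ↔ ∀ i, σ i a = a) (z : A ⊗[R] M)
    (hz : ∀ i, (σ i).rTensor M z = z) : z ∈ Set.range (A₀.subtype.rTensor M) := by
  let δ : A →ₗ[R] (ι → A) := LinearMap.pi fun i => σ i - LinearMap.id
  have hex : Function.Exact A₀.subtype δ := fun a => by
    constructor
    · intro h
      exact ⟨⟨a, (hA₀ a).2 fun i => sub_eq_zero.1 (congrFun h i)⟩, rfl⟩
    · rintro ⟨b, rfl⟩
      exact funext fun i => sub_eq_zero.2 ((hA₀ b.1).1 b.2 i)
  refine (Module.Flat.rTensor_exact M hex z).1 ?_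
  refine (TensorProduct.piLeft R M (fun _ : ι => A)).injective ?_
  rw [map_zero]
  funext i
  have key : ∀ w : A ⊗[R] M, TensorProduct.piLeft R M (fun _ : ι => A) (δ.rTensor M w) i =
      (σ i).rTensor M w - w := fun w => by
    induction w using TensorProduct.induction_on with
    | zero => simp
    | add x y hx hy => simp only [map_add, Pi.add_apply, hx, hy]; abel
    | tmul a m => simp [δ, TensorProduct.sub_tmul]
  rw [key, hz, sub_self, Pi.zero_apply]

theorem comm_lTensor {N P Q : Type u} [AddCommGroup N] [Module R N] [AddCommGroup P] [Module R P]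
    [AddCommGroup Q] [Module R Q] (f : P →ₗ[R] Q) (w : N ⊗[R] P) :
    TensorProduct.comm R N Q (f.lTensor N w) = f.rTensor N (TensorProduct.comm R N P w) := by
  induction w using TensorProduct.induction_on with
  | zero => simp
  | add x y hx hy => simp only [map_add, hx, hy]
  | tmul a b => rfl

/-- The same on the other side. -/
theorem fixed_of_flat' [Module.Flat R M] {ι : Type*} [Fintype ι] [DecidableEq ι] (σ : ι → A →ₗ[R] A)
    (A₀ : Submodule R A) (hA₀ : ∀ a, a ∈ A₀ ↔ ∀ i, σ i a = a) (z : M ⊗[R] A)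
    (hz : ∀ i, (σ i).lTensor M z = z) : z ∈ Set.range (A₀.subtype.lTensor M) := by
  obtain ⟨v, hv⟩ := fixed_of_flat σ A₀ hA₀ (TensorProduct.comm R M A z) fun i => by
    rw [← comm_lTensor, hz]
  refine ⟨(TensorProduct.comm R M A₀).symm v, (TensorProduct.comm R M A).injective ?_⟩
  rw [comm_lTensor, LinearEquiv.apply_symm_apply, hv]

variable {B : Type u} [AddCommGroup B] [Module R B]

/-- Fixed elements of a tensor product of two representations, flat case. -/
theorem of_flat [Module.Flat R B] {ι κ : Type*} [Fintype ι] [DecidableEq ι] [Fintype κ] [DecidableEq κ]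
    (σ : ι → A →ₗ[R] A) (τ : κ → B →ₗ[R] B) (A₀ : Submodule R A) (B₀ : Submodule R B) [Module.Flat R A₀]
    (hA₀ : ∀ a, a ∈ A₀ ↔ ∀ i, σ i a = a) (hB₀ : ∀ b, b ∈ B₀ ↔ ∀ j, τ j b = b) :
    Function.Injective (TensorProduct.map A₀.subtype B₀.subtype) ∧
      ∀ z : A ⊗[R] B, (∀ i, (σ i).rTensor B z = z) → (∀ j, (τ j).lTensor A z = z) →
        z ∈ Set.range (TensorProduct.map A₀.subtype B₀.subtype) := by
  have h1 : Function.Injective (A₀.subtype.rTensor B) :=
    Module.Flat.rTensor_preserves_injective_linearMap _ A₀.injective_subtype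
  have h2 : Function.Injective (B₀.subtype.lTensor A₀) :=
    Module.Flat.lTensor_preserves_injective_linearMap _ B₀.injective_subtype
  have hmap : ∀ w, TensorProduct.map A₀.subtype B₀.subtype w = A₀.subtype.rTensor B (B₀.subtype.lTensor A₀ w) :=
    fun w => by rw [← LinearMap.comp_apply, LinearMap.rTensor_comp_lTensor]
  refine ⟨fun a b h => h2 (h1 (by rw [← hmap, ← hmap, h])), fun z hσ hτ => ?_⟩
  obtain ⟨w, rfl⟩ := fixed_of_flat σ A₀ hA₀ z hσ
  have hw : ∀ j, (τ j).lTensor A₀ w = w := fun j => h1 <| by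
    refine Eq.trans ?_ (hτ j)
    rw [← LinearMap.comp_apply, ← LinearMap.comp_apply, LinearMap.rTensor_comp_lTensor, LinearMap.lTensor_comp_rTensor]
  obtain ⟨v, hv⟩ := fixed_of_flat' τ B₀ hB₀ w hw
  exact ⟨v, by rw [hmap, hv]⟩

/-- Fixed elements of a tensor product of two representations, when the orders are invertible. -/
theorem of_isUnit {ι κ : Type*} [Fintype ι] [Fintype κ] (σ : ι → A →ₗ[R] A) (τ : κ → B →ₗ[R] B)
    (hι : IsUnit (Fintype.card ι : R)) (hκ : IsUnit (Fintype.card κ : R))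
    (hσ : ∀ j, ∃ e : ι ≃ ι, ∀ i, σ j ∘ₗ σ i = σ (e i)) (hτ : ∀ j, ∃ e : κ ≃ κ, ∀ i, τ j ∘ₗ τ i = τ (e i))
    (A₀ : Submodule R A) (B₀ : Submodule R B)
    (hA₀ : ∀ a, a ∈ A₀ ↔ ∀ i, σ i a = a) (hB₀ : ∀ b, b ∈ B₀ ↔ ∀ j, τ j b = b) :
    Function.Injective (TensorProduct.map A₀.subtype B₀.subtype) ∧
      ∀ z : A ⊗[R] B, (∀ i, (σ i).rTensor B z = z) → (∀ j, (τ j).lTensor A z = z) →
        z ∈ Set.range (TensorProduct.map A₀.subtype B₀.subtype) := by
  obtain ⟨u, hu⟩ := hι
  obtain ⟨v, hv⟩ := hκ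
  let eA : A →ₗ[R] A₀ := ((↑u⁻¹ : R) • ∑ i, σ i).codRestrict A₀ fun a => (hA₀ _).2 fun j => by
    obtain ⟨e, he⟩ := hσ j
    simp only [LinearMap.smul_apply, LinearMap.sum_apply, map_smul, map_sum]
    congr 1
    refine (Finset.sum_congr rfl fun i _ => ?_).trans (e.sum_comp fun i => σ i a)
    exact congr($(he i) a)
  let eB : B →ₗ[R] B₀ := ((↑v⁻¹ : R) • ∑ i, τ i).codRestrict B₀ fun a => (hB₀ _).2 fun j => by
    obtain ⟨e, he⟩ := hτ j
    simp only [LinearMap.smul_apply, LinearMap.sum_apply, map_smul, map_sum]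
    congr 1
    refine (Finset.sum_congr rfl fun i _ => ?_).trans (e.sum_comp fun i => τ i a)
    exact congr($(he i) a)
  have hA : eA ∘ₗ A₀.subtype = LinearMap.id := LinearMap.ext fun a => Subtype.ext <| by
    show (↑u⁻¹ : R) • (∑ i, σ i) a.1 = a.1
    rw [LinearMap.sum_apply, Finset.sum_congr rfl fun i _ => (hA₀ a.1).1 a.2 i, Finset.sum_const, Finset.card_univ,
      ← Nat.cast_smul_eq_nsmul R, smul_smul, ← hu, Units.inv_mul, one_smul]
  have hB : eB ∘ₗ B₀.subtype = LinearMap.id := LinearMap.ext fun a => Subtype.ext <| by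
    show (↑v⁻¹ : R) • (∑ i, τ i) a.1 = a.1
    rw [LinearMap.sum_apply, Finset.sum_congr rfl fun i _ => (hB₀ a.1).1 a.2 i, Finset.sum_const, Finset.card_univ,
      ← Nat.cast_smul_eq_nsmul R, smul_smul, ← hv, Units.inv_mul, one_smul]
  refine ⟨?_, fun z hz hz' => ⟨TensorProduct.map eA eB z, ?_⟩⟩
  · refine Function.LeftInverse.injective (g := TensorProduct.map eA eB) fun w => ?_
    rw [TensorProduct.map_map, hA, hB, TensorProduct.map_id, LinearMap.id_apply]
  rw [TensorProduct.map_map]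
  have hA' : A₀.subtype ∘ₗ eA = (↑u⁻¹ : R) • ∑ i, σ i := LinearMap.subtype_comp_codRestrict _ _ _
  have hB' : B₀.subtype ∘ₗ eB = (↑v⁻¹ : R) • ∑ i, τ i := LinearMap.subtype_comp_codRestrict _ _ _
  rw [hA', hB', ← LinearMap.rTensor_comp_lTensor, LinearMap.comp_apply]
  have h1 : LinearMap.lTensor A ((↑v⁻¹ : R) • ∑ i, τ i) z = z := by
    rw [LinearMap.lTensor_smul]
    simp only [← LinearMap.coe_lTensorHom, map_sum, LinearMap.smul_apply, LinearMap.sum_apply]
    simp only [LinearMap.coe_lTensorHom, hz', Finset.sum_const, Finset.card_univ]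
    rw [← Nat.cast_smul_eq_nsmul R, smul_smul, ← hv, Units.inv_mul, one_smul]
  rw [h1, LinearMap.rTensor_smul]
  simp only [← LinearMap.coe_rTensorHom, map_sum, LinearMap.smul_apply, LinearMap.sum_apply]
  simp only [LinearMap.coe_rTensorHom, hz, Finset.sum_const, Finset.card_univ]
  rw [← Nat.cast_smul_eq_nsmul R, smul_smul, ← hu, Units.inv_mul, one_smul]

end Groth.Agent.H81.SymProd2.FixTensor
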