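import Groth.Agent.H81.SymProd2.Box

/-!
Invariants of a piece of a tensor power under the stabiliser of the piece.
-/

set_option autoImplicit false
set_option linter.style.haveILetI false
universe u

open scoped TensorProduct

namespace Groth.Agent.H81.SymProd2.Retract

open Groth.Agent.Lib.PolLaw

variable {R : Type u} [CommRing R] {d : ℕ} {M : Fin d → Type u} [∀ i, CommRing (M i)] [∀ i, Algebra R (M i)]

/-- The stabiliser of an index function. -/
def stab (k : Fin d → Fin d) : Subgroup (Equiv.Perm (Fin d)) where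
  carrier := {σ | ∀ i, k (σ i) = k i}
  one_mem' _ := rfl
  mul_mem' {σ τ} hσ hτ i := (hσ (τ i)).trans (hτ i)
  inv_mem' {σ} hσ i := by
    have := hσ (σ⁻¹ i)
    rw [show σ (σ⁻¹ i) = i from σ.apply_symm_apply i] at this
    exact this.symm

theorem perm_perm (B : Type u) [CommRing B] [Algebra R B] (σ τ : Equiv.Perm (Fin d)) (t : ⨂[R] _ : Fin d, B) :
    SymTen.perm R B d σ (SymTen.perm R B d τ t) = SymTen.perm R B d (σ * τ) t := by
  induction t using PiTensorProduct.induction_on with
  | smul_tprod r b => simp only [map_smul, SymTen.perm_tprod]; rfl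
  | add x y hx hy => simp only [map_add, hx, hy]

theorem flat_pi [∀ i, Module.Flat R (M i)] : Module.Flat R (∀ i, M i) :=
  Module.Flat.of_linearEquiv (DirectSum.linearEquivFunOnFintype R (Fin d) M).symm

/-- An algebra isomorphic to `⊗ M (k i)` is flat, and so are its invariants under the stabiliser of `k`. -/
theorem flat_fixed [∀ i, Module.Flat R (M i)] (k : Fin d → Fin d) {C : Type u} [CommRing C] [Algebra R C]
    (q : ∀ i, M (k i) →ₐ[R] C) (hq : Function.Bijective (Box.lift q))
    (σC : Equiv.Perm (Fin d) → (C →ₐ[R] C))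
    (hσC : ∀ σ ∈ stab k, ∀ i (b : ∀ j, M j), σC σ (q i (b (k i))) = q (σ i) (b (k (σ i))))
    (F : Submodule R C) (hF : ∀ c, c ∈ F ↔ ∀ σ ∈ stab k, σC σ c = c) :
    Module.Flat R C ∧ Module.Flat R F := by
  classical
  haveI : Module.Flat R (∀ i, M i) := flat_pi
  let p : Fin d → ((∀ j, M j) →ₐ[R] C) := fun i => (q i).comp (Pi.evalAlgHom R M (k i))
  let r : (⨂[R] _ : Fin d, (∀ j, M j)) →ₐ[R] C := SymPoints.prodLift p
  have hr : ∀ b, r (PiTensorProduct.tprod R b) = ∏ i, q i (b i (k i)) := fun b => SymPoints.prodLift_tprod p b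
  let e' := AlgEquiv.ofBijective (Box.lift q) hq
  let ι₀ : (⨂[R] i, M (k i)) →ₗ[R] ⨂[R] _ : Fin d, (∀ j, M j) :=
    PiTensorProduct.map fun i => LinearMap.single R M (k i)
  let ι : C →ₗ[R] ⨂[R] _ : Fin d, (∀ j, M j) := ι₀ ∘ₗ e'.symm.toLinearMap
  let ε : ⨂[R] _ : Fin d, (∀ j, M j) := PiTensorProduct.tprod R fun i => Pi.single (k i) (1 : M (k i))
  have hιr : ∀ t, ι (r t) = ε * t := by
    intro t
    induction t using PiTensorProduct.induction_on with
    | add x y hx hy => rw [map_add, map_add, hx, hy, mul_add]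
    | smul_tprod a b =>
      rw [map_smul, map_smul]
      refine Eq.trans (congrArg (a • ·) ?_) ((Algebra.smul_def (R := R) a _).trans
        ((mul_left_comm _ _ _).trans (congrArg (ε * ·) (Algebra.smul_def (R := R) a _).symm)))
      have h0 : e'.symm (r (PiTensorProduct.tprod R b)) = PiTensorProduct.tprod R (fun i => b i (k i)) :=
        e'.injective (by
          rw [AlgEquiv.apply_symm_apply, hr]
          exact (Box.lift_tprod q _).symm)
      show ι₀ (e'.symm (r (PiTensorProduct.tprod R b))) = _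
      rw [h0, PiTensorProduct.map_tprod, PiTensorProduct.tprod_mul_tprod]
      congr 1
      funext i j
      by_cases h : j = k i
      · subst h; simp
      · simp [Pi.single_eq_of_ne h]
  have hrι : ∀ c, r (ι c) = c := by
    intro c
    obtain ⟨t, rfl⟩ := e'.surjective c
    show r (ι₀ (e'.symm (e' t))) = e' t
    rw [AlgEquiv.symm_apply_apply]
    induction t using PiTensorProduct.induction_on with
    | add x y hx hy => simp only [map_add, hx, hy]
    | smul_tprod a b =>
      simp only [map_smul, PiTensorProduct.map_tprod, hr, ι₀, LinearMap.single_apply, Pi.single_eq_same]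
      congr 1
      exact (Box.lift_tprod q _).symm
  have heq : ∀ σ ∈ stab k, ∀ t, σC σ (r t) = r (SymTen.perm R (∀ j, M j) d σ t) := by
    intro σ hσ t
    have key : (σC σ).comp r = r.comp (SymTen.perm R (∀ j, M j) d σ) :=
      PiTensorProduct.algHom_ext fun i => AlgHom.ext fun b => by
        simp only [AlgHom.comp_apply, SymPoints.perm_single]
        show σC σ (r _) = r _
        rw [show r (PiTensorProduct.singleAlgHom (A := fun _ : Fin d => ∀ j, M j) i b) = q i (b (k i)) from
          SymPoints.prodLift_single p i b, show r (PiTensorProduct.singleAlgHom (A := fun _ : Fin d => ∀ j, M j)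
            (σ i) b) = q (σ i) (b (k (σ i))) from SymPoints.prodLift_single p (σ i) b]
        exact hσC σ hσ i b
    exact AlgHom.congr_fun key t
  have hε : ∀ σ ∈ stab k, SymTen.perm R (∀ j, M j) d σ ε = ε := by
    intro σ hσ
    rw [SymTen.perm_tprod]
    congr 1
    funext i
    have hk : k (σ.symm i) = k i := (stab k).inv_mem hσ i
    rw [hk]
  have hε0 : ∀ σ, σ ∉ stab k → r (SymTen.perm R (∀ j, M j) d σ ε) = 0 := by
    intro σ hσ
    obtain ⟨i, hi⟩ : ∃ i, k (σ i) ≠ k i := not_forall.1 hσ
    rw [SymTen.perm_tprod, hr]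
    refine Finset.prod_eq_zero (Finset.mem_univ (σ i)) ?_
    rw [Equiv.symm_apply_apply, Pi.single_eq_of_ne hi, map_zero]
  have hιF : ∀ σ ∈ stab k, ∀ c ∈ F, SymTen.perm R (∀ j, M j) d σ (ι c) = ι c := by
    intro σ hσ c hc
    have h0 : ε * ι c = ι c := by rw [← hιr, hrι]
    conv_rhs => rw [← (hF c).1 hc σ hσ, ← hrι c, heq σ hσ, hιr]
    conv_lhs => rw [← h0, map_mul, hε σ hσ]
  refine ⟨?_, ?_⟩
  · haveI : Module.Flat R (⨂[R] _ : Fin d, (∀ j, M j)) := FlatFibre.flat_tpow _ d
    exact Module.Flat.of_retract ι r.toLinearMap (LinearMap.ext hrι)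
  let tr : (Equiv.Perm (Fin d) ⧸ stab k) → (F →ₗ[R] ⨂[R] _ : Fin d, (∀ j, M j)) := fun a =>
    Quotient.liftOn' a (fun g => (SymTen.perm R (∀ j, M j) d g).toLinearMap ∘ₗ ι ∘ₗ F.subtype) fun g g' h => by
      refine LinearMap.ext fun c => ?_
      have h' : g⁻¹ * g' ∈ stab k := QuotientGroup.leftRel_apply.1 h
      show SymTen.perm R _ d g (ι c.1) = SymTen.perm R _ d g' (ι c.1)
      conv_rhs => rw [show g' = g * (g⁻¹ * g') by group, ← perm_perm, hιF _ h' _ c.2]
  let J : F →ₗ[R] ⨂[R] _ : Fin d, (∀ j, M j) := ∑ a, tr a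
  let TS := Subalgebra.toSubmodule (SymTen.TS R (∀ j, M j) d)
  have hJ : ∀ c, J c ∈ TS := fun c σ => by
    rw [← SymTen.perm_apply]
    simp only [J, LinearMap.sum_apply, map_sum]
    refine (Finset.sum_congr rfl fun a _ => ?_).trans
      (Equiv.sum_comp (MulAction.toPerm σ : Equiv.Perm (Equiv.Perm (Fin d) ⧸ stab k)) fun a => tr a c)
    induction a using Quotient.inductionOn' with
    | h g => exact perm_perm _ σ g _
  let back : TS →ₗ[R] F := (r.toLinearMap ∘ₗ TS.subtype).codRestrict F fun t => (hF _).2 fun σ hσ => by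
    show σC σ (r t.1) = r t.1
    rw [heq σ hσ, SymTen.perm_apply, t.2 σ]
  haveI : Module.Flat R TS := GammaTS.flat_TS
  refine Module.Flat.of_retract (J.codRestrict TS hJ) back (LinearMap.ext fun c => Subtype.ext ?_)
  show r (J c) = c.1
  simp only [J, LinearMap.sum_apply, map_sum]
  rw [Finset.sum_eq_single (QuotientGroup.mk 1 : Equiv.Perm (Fin d) ⧸ stab k)]
  · show r (SymTen.perm R _ d 1 (ι c.1)) = c.1
    rw [show SymTen.perm R (∀ j, M j) d 1 (ι c.1) = ι c.1 from hιF 1 (stab k).one_mem _ c.2, hrι]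
  · intro a _ ha
    induction a using Quotient.inductionOn' with
    | h g =>
      have hg : g ∉ stab k := fun hg => ha (QuotientGroup.eq.2 (by simpa using hg))
      show r (SymTen.perm R _ d g (ι c.1)) = 0
      rw [show ι c.1 = ε * ι c.1 by rw [← hιr, hrι], map_mul, map_mul, hε0 g hg, zero_mul]
  · exact fun h => absurd (Finset.mem_univ _) h

end Groth.Agent.H81.SymProd2.Retract
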