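import Groth.Agent.H81.SymProd.Quot
import Groth.Agent.H81.SymProd2.Retract
import Groth.Agent.H81.SymProd2.Fix

/-!
Symmetric products of flat morphisms are flat.
-/

set_option autoImplicit false
set_option linter.style.haveILetI false
universe u

open CategoryTheory CategoryTheory.Limits AlgebraicGeometry TopologicalSpace
open scoped TensorProduct

namespace Groth.Agent.H81.SymProd2.Flat'

open Groth.Agent.H81.SymProd.Chart (pr base perm_apply)
open Groth.Agent.Lib

section General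

theorem mem_basicOpen_iff_notMem {X : Scheme.{u}} {U : X.Opens} (hU : IsAffineOpen U) (s : Γ(X, U)) {x : X}
    (hx : x ∈ U) : x ∈ X.basicOpen s ↔ s ∉ (hU.primeIdealOf ⟨x, hx⟩).asIdeal := by
  have h := hU.fromSpec_preimage_basicOpen s
  have h' : hU.fromSpec (hU.primeIdealOf ⟨x, hx⟩) = x := hU.fromSpec_primeIdealOf ⟨x, hx⟩
  conv_lhs => rw [← h']
  show hU.primeIdealOf ⟨x, hx⟩ ∈ hU.fromSpec ⁻¹ᵁ X.basicOpen s ↔ _
  rw [h]
  rfl

theorem appLE_congr_index {A B : Scheme.{u}} (φ : A ⟶ B) {ι : Type*} (U : ι → B.Opens) {a a' : ι} (h : a = a')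
    (W : A.Opens) (e : W ≤ φ ⁻¹ᵁ U a) (e' : W ≤ φ ⁻¹ᵁ U a') (b : ∀ i, Γ(B, U i)) :
    φ.appLE (U a) W e (b a) = φ.appLE (U a') W e' (b a') := by
  subst h; rfl

end General

variable {X S Y : Scheme.{u}} (f : X ⟶ S) {d : ℕ}

theorem perm_mul_apply (σ τ : Equiv.Perm (Fin d)) (x : SymProd.fibPow f d) :
    SymProd.permHom f d (σ * τ) x = SymProd.permHom f d σ (SymProd.permHom f d τ x) := by
  rw [SymProd.permHom_mul, Scheme.Hom.comp_apply]

theorem perm_one_apply (x : SymProd.fibPow f d) : SymProd.permHom f d 1 x = x := by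
  rw [SymProd.permHom_one]; rfl

/-- Permuted points specialise to one another only if they are equal. -/
theorem eq_of_specializes (z : SymProd.fibPow f d) (g : Equiv.Perm (Fin d))
    (h : z ⤳ SymProd.permHom f d g z) : SymProd.permHom f d g z = z := by
  obtain ⟨n, hn, hg⟩ : ∃ n, 0 < n ∧ g ^ n = 1 := ⟨orderOf g, orderOf_pos g, pow_orderOf_eq_one g⟩
  have key : ∀ j, SymProd.permHom f d g z ⤳ SymProd.permHom f d (g ^ (j + 1)) z := by
    intro j
    induction j with
    | zero => rw [zero_add, pow_one]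
    | succ j ih =>
      refine ih.trans ?_
      have h2 := h.map (SymProd.permHom f d (g ^ (j + 1))).continuous
      rw [← perm_mul_apply, ← pow_succ] at h2
      exact h2
  have := key (n - 1)
  rw [Nat.sub_add_cancel hn, hg, perm_one_apply] at this
  exact (this.antisymm h).eq

theorem permHom_comp (σ τ : Equiv.Perm (Fin d)) :
    SymProd.permHom f d σ ≫ SymProd.permHom f d τ = SymProd.permHom f d (τ * σ) :=
  (SymProd.permHom_mul f d τ σ).symm

/-- The norm over `H` of a section. -/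
theorem exists_norm {H : Subgroup (Equiv.Perm (Fin d))} {O : (SymProd.fibPow f d).Opens}
    (hO : Fix.Stable f H O) (s : Γ(SymProd.fibPow f d, O)) :
    ∃ n ∈ Fix.fix f hO, (SymProd.fibPow f d).basicOpen n ≤ (SymProd.fibPow f d).basicOpen s ∧
      ∀ z ∈ O, (∀ h ∈ H, SymProd.permHom f d h z ∈ (SymProd.fibPow f d).basicOpen s) →
        z ∈ (SymProd.fibPow f d).basicOpen n := by
  classical
  letI : Fintype H := Fintype.ofFinite H
  refine ⟨∏ h : H, Fix.act f hO h.1 h.2 s, (Fix.mem_fix f hO).2 fun σ hσ => ?_, ?_, fun z hz hs => ?_⟩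
  · rw [map_prod]
    refine (Finset.prod_congr rfl fun h _ => ?_).trans
      (Equiv.prod_comp (Equiv.mulRight (⟨σ, hσ⟩ : H)) fun h => Fix.act f hO h.1 h.2 s)
    show Fix.act f hO σ hσ (Fix.act f hO h.1 h.2 s) = Fix.act f hO (h.1 * σ) (H.mul_mem h.2 hσ) s
    rw [Fix.act, Fix.act, Fix.act, ← CommRingCat.comp_apply, Scheme.Hom.appLE_comp_appLE]
    simp only [permHom_comp]
  · intro z hz
    have hzO := Scheme.basicOpen_le _ _ hz
    rw [Scheme.mem_basicOpen _ _ _ hzO, map_prod, IsUnit.prod_univ_iff] at hz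
    have h1 := (Scheme.mem_basicOpen _ _ _ hzO).2 (hz (1 : H))
    rw [Fix.act, Scheme.basicOpen_appLE] at h1
    have h2 : SymProd.permHom f d 1 z ∈ (SymProd.fibPow f d).basicOpen s := h1.2
    rwa [perm_one_apply] at h2
  · rw [Scheme.mem_basicOpen _ _ _ hz, map_prod, IsUnit.prod_univ_iff]
    intro h
    refine (Scheme.mem_basicOpen _ _ _ hz).1 ?_
    rw [Fix.act, Scheme.basicOpen_appLE]
    exact ⟨hz, hs _ h.2⟩

variable [AlgebraicGeometry.Flat f]

open Classical in
/-- A box around a point, stable under the stabiliser of the tuple, with flat invariants. -/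
theorem exists_box (hd : 0 < d) (x : SymProd.fibPow f d) {V : S.Opens} (hV : IsAffineOpen V)
    (hxV : base f d x ∈ V) :
    ∃ (k : Fin d → Fin d) (B : (SymProd.fibPow f d).Opens) (hB : Fix.Stable f (Retract.stab k) B)
      (hBV : B ≤ base f d ⁻¹ᵁ V),
      IsAffineOpen B ∧ x ∈ B ∧ ((base f d).appLE V B hBV).hom.Flat ∧ (Fix.str f hB hBV).Flat ∧
        ∀ σ, SymProd.permHom f d σ x = x → σ ∈ Retract.stab k := by
  let a : Fin d → X := fun i => pr f d i x
  haveI : Nonempty (Fin d) := ⟨⟨0, hd⟩⟩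
  let k : Fin d → Fin d := fun i => Function.invFun a (a i)
  have hk : ∀ i, a (k i) = a i := fun i => Function.invFun_eq ⟨i, rfl⟩
  have hU : ∀ j, ∃ W : X.Opens, IsAffineOpen W ∧ a j ∈ W ∧ W ≤ f ⁻¹ᵁ V := fun j => by
    obtain ⟨_, ⟨W, hW, rfl⟩, h1, h2⟩ := X.isBasis_affineOpens.exists_subset_of_mem_open
      (show a j ∈ f ⁻¹ᵁ V by
        show f (pr f d j x) ∈ V
        rwa [← Scheme.Hom.comp_apply, WidePullback.π_arrow]) (f ⁻¹ᵁ V).isOpen
    exact ⟨W, hW, h1, h2⟩
  choose U hUa hUx hUV using hU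
  let Uk : Fin d → X.Opens := fun i => U (k i)
  have hB : Fix.Stable f (Retract.stab k) (Box.box f Uk) := fun σ hσ =>
    Box.box_stable f σ fun i => congrArg U (hσ i)
  have hBV : Box.box f Uk ≤ base f d ⁻¹ᵁ V := Box.box_le_base f hd fun i => hUV (k i)
  refine ⟨k, Box.box f Uk, hB, hBV, Box.isAffineOpen_box f (fun i => hUa _) hV (fun i => hUV _) hd,
    (Box.mem_box f).2 fun i => by show a i ∈ U (k i); rw [← hk i]; exact hUx _, ?_⟩
  let C := Γ(SymProd.fibPow f d, Box.box f Uk)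
  letI : ∀ j, Algebra Γ(S, V) Γ(X, U j) := fun j => (f.appLE V (U j) (hUV j)).hom.toAlgebra
  letI : Algebra Γ(S, V) C := ((base f d).appLE V (Box.box f Uk) hBV).hom.toAlgebra
  haveI : ∀ j, Module.Flat Γ(S, V) Γ(X, U j) := fun j => f.flat_appLE hV (hUa j) (hUV j)
  let q : ∀ i, Γ(X, U (k i)) →ₐ[Γ(S, V)] C := fun i =>
    { __ := ((pr f d i).appLE (U (k i)) (Box.box f Uk) (Box.box_le_pr f Uk i)).hom
      commutes' := fun r => by
        show (pr f d i).appLE (U (k i)) (Box.box f Uk) _ (f.appLE V (U (k i)) _ r) =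
          (base f d).appLE V (Box.box f Uk) hBV r
        rw [← CommRingCat.comp_apply, Scheme.Hom.appLE_comp_appLE]
        simp only [show pr f d i ≫ f = base f d from WidePullback.π_arrow _ _] }
  let σC : Equiv.Perm (Fin d) → (C →ₐ[Γ(S, V)] C) := fun σ =>
    if hσ : σ ∈ Retract.stab k then
      { __ := (Fix.act f hB σ⁻¹ ((Retract.stab k).inv_mem hσ)).hom
        commutes' := fun r =>
          (Fix.mem_fix f hB).1 (Fix.str f hB hBV r).2 σ⁻¹ ((Retract.stab k).inv_mem hσ) }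
    else AlgHom.id _ _
  have hσC : ∀ σ (hσ : σ ∈ Retract.stab k) c,
      σC σ c = Fix.act f hB σ⁻¹ ((Retract.stab k).inv_mem hσ) c := fun σ hσ c => by
    simp only [σC, dif_pos hσ]; rfl
  let str' := (Fix.str f hB hBV)
  let F : Submodule Γ(S, V) C :=
    { __ := (Fix.fix f hB).toAddSubgroup.toAddSubmonoid
      smul_mem' := fun r c hc => by
        show r • c ∈ Fix.fix f hB
        rw [Algebra.smul_def]
        exact (Fix.fix f hB).mul_mem (str' r).2 hc }
  obtain ⟨h1, h2⟩ := Retract.flat_fixed (M := fun j => Γ(X, U j)) k q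
    (Box.lift_bijective f hd (fun i => hUa (k i)) hV (fun i => hUV (k i)) (fun _ => rfl) rfl q (fun _ _ => rfl))
    σC (fun σ hσ i b => by
      rw [hσC σ hσ]
      show Fix.act f hB σ⁻¹ _ ((pr f d i).appLE (U (k i)) (Box.box f Uk) _ (b (k i))) =
        (pr f d (σ i)).appLE (U (k (σ i))) (Box.box f Uk) _ (b (k (σ i)))
      rw [Fix.act, ← CommRingCat.comp_apply, Scheme.Hom.appLE_comp_appLE]
      have hπ : SymProd.permHom f d σ⁻¹ ≫ pr f d i = pr f d (σ i) := SymProd.permHom_π _ _ _ _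
      simp only [hπ]
      exact appLE_congr_index _ U (hσ i).symm _ _ _ b)
    F (fun c => by
      show c ∈ Fix.fix f hB ↔ _
      rw [Fix.mem_fix]
      refine ⟨fun h σ hσ => (hσC σ hσ c).trans (h _ _), fun h σ hσ => ?_⟩
      have := (hσC σ⁻¹ ((Retract.stab k).inv_mem hσ) c).symm.trans (h _ ((Retract.stab k).inv_mem hσ))
      simpa only [inv_inv] using this)
  refine ⟨h1, ?_, fun σ hσ i => ?_⟩
  · letI := str'.toAlgebra
    let eF : F ≃ₗ[Γ(S, V)] Fix.fix f hB :=
      { toFun := fun c => ⟨c.1, c.2⟩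
        invFun := fun c => ⟨c.1, c.2⟩
        map_add' := fun _ _ => rfl
        map_smul' := fun r c => Subtype.ext <| by
          show (r • c.1 : C) = (str' r * ⟨c.1, c.2⟩ : Fix.fix f hB).1
          rw [Algebra.smul_def]; rfl
        left_inv := fun _ => rfl
        right_inv := fun _ => rfl }
    exact Module.Flat.of_linearEquiv eF.symm
  · have : a (σ i) = a i := by
      show pr f d (σ i) x = pr f d i x
      conv_lhs => rw [← hσ, perm_apply, Equiv.symm_apply_apply]
    show Function.invFun a (a (σ i)) = Function.invFun a (a i)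
    rw [this]

omit [AlgebraicGeometry.Flat f] in
theorem isIso_base_zero : IsIso (WidePullback.base fun _ : Fin 0 => f) :=
  ⟨WidePullback.lift (𝟙 S) (fun i => i.elim0) (fun i => i.elim0),
    WidePullback.hom_ext _ _ _ (fun i => i.elim0)
      (by rw [Category.assoc, WidePullback.lift_base, Category.comp_id, Category.id_comp]),
    WidePullback.lift_base _ _ _ _⟩

/-- Fibre powers of flat morphisms are flat. -/
theorem flat_base (d : ℕ) : AlgebraicGeometry.Flat (WidePullback.base fun _ : Fin d => f) := by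
  rcases Nat.eq_zero_or_pos d with rfl | hd
  · have := isIso_base_zero f
    infer_instance
  refine (HasRingHomProperty.iff_exists_appLE (P := @AlgebraicGeometry.Flat) ?_).2 fun x => ?_
  · exact (RingHom.Flat.stableUnderComposition.stableUnderCompositionWithLocalizationAway
      RingHom.Flat.holdsForLocalizationAway).1
  obtain ⟨_, ⟨V, hV, rfl⟩, hxV, -⟩ :=
    S.isBasis_affineOpens.exists_subset_of_mem_open (Set.mem_univ (base f d x)) isOpen_univ
  obtain ⟨k, B, -, hBV, hBa, hxB, hflat, -, -⟩ := exists_box f hd x hV hxV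
  exact ⟨⟨V, hV⟩, ⟨B, hBa⟩, hxB, hBV, hflat⟩

open Classical in
set_option maxHeartbeats 1600000 in
theorem flat_app (hd : 0 < d) {q : SymProd.fibPow f d ⟶ Y} {g : Y ⟶ S} (hq : SymProd.IsSymProd f d q g)
    {V : S.Opens} (hV : IsAffineOpen V) {W : Y.Opens} (hW : IsAffineOpen W) (hWV : W ≤ g ⁻¹ᵁ V) :
    (g.appLE V W hWV).hom.Flat := by
  haveI := hq.isQuot.affine
  have hA : IsAffineOpen (q ⁻¹ᵁ W) := hW.preimage q
  have hAV : q ⁻¹ᵁ W ≤ base f d ⁻¹ᵁ V := by
    rw [show base f d = q ≫ g from hq.over.symm, Scheme.Hom.comp_preimage]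
    exact q.preimage_mono hWV
  letI := (g.appLE V W hWV).hom.toAlgebra
  show Module.Flat Γ(S, V) Γ(Y, W)
  refine Module.Flat.iff_lTensor_injective'.2 fun I => (injective_iff_map_eq_zero _).2 fun z hz => ?_
  by_contra hz0
  let ann : Ideal Γ(Y, W) := LinearMap.ker (LinearMap.toSpanSingleton Γ(Y, W) _ z)
  have hann : ann ≠ ⊤ := fun h => hz0 <| by
    have := h ▸ (Submodule.mem_top : (1 : Γ(Y, W)) ∈ ⊤)
    simpa [ann] using this
  obtain ⟨m, hm, hle⟩ := ann.exists_le_maximal hann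
  let P : Spec Γ(Y, W) := ⟨m, hm.isPrime⟩
  have hyW : hW.fromSpec P ∈ W := hW.range_fromSpec.le ⟨P, rfl⟩
  obtain ⟨x, hx⟩ := SchQuot.IsQuot.surjective hq.isQuot (hW.fromSpec P)
  have hxA : x ∈ q ⁻¹ᵁ W := by show q x ∈ W; rw [hx]; exact hyW
  obtain ⟨k, B, hB, hBV, hBa, hxB, -, hflatB, hstab⟩ := exists_box f hd x hV (hAV hxA)
  have hAst : Fix.Stable f (Retract.stab k) (q ⁻¹ᵁ W) := fun σ _ => by
    have := SGA1.preimage_le_of_inv _ q hq.isQuot.inv ⟨σ⟩ W
    rwa [SymProd.permActU_hom] at this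
  let H := Retract.stab k
  let Hx : Set (SymProd.fibPow f d) := Set.range fun h : H => SymProd.permHom f d h.1 x
  have hHxA : Hx ⊆ q ⁻¹ᵁ W := by rintro _ ⟨h, rfl⟩; exact hAst h.1 h.2 hxA
  have hHxB : Hx ⊆ B := by rintro _ ⟨h, rfl⟩; exact hB h.1 h.2 hxB
  obtain ⟨c₀, hc₀W, hc₀⟩ := GrpdQuot.exists_basicOpen_le_of_finite hBa Hx (Set.finite_range _) hHxA hHxB
  obtain ⟨c, hc, hcle, hcmem⟩ := exists_norm f hB c₀
  let Dc := (SymProd.fibPow f d).basicOpen c
  have hHxc : Hx ⊆ Dc := by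
    rintro _ ⟨h, rfl⟩
    refine hcmem _ (hHxB ⟨h, rfl⟩) fun h' hh' => hc₀ ⟨⟨h' * h.1, H.mul_mem hh' h.2⟩, ?_⟩
    exact perm_mul_apply f _ _ _
  let Bad : Set (SymProd.fibPow f d) := Set.range fun s : {s // s ∉ H} => SymProd.permHom f d s.1 x
  let O' : (SymProd.fibPow f d).Opens := Dc ⊓ ⟨(closure Bad)ᶜ, isClosed_closure.isOpen_compl⟩
  have hHxO : Hx ⊆ O' := by
    rintro _ ⟨h, rfl⟩
    refine ⟨hHxc ⟨h, rfl⟩, fun hcl => ?_⟩
    rw [show Bad = ⋃ s : {s // s ∉ H}, {SymProd.permHom f d s.1 x} by simp [Bad],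
      closure_iUnion_of_finite] at hcl
    obtain ⟨s, hs⟩ := Set.mem_iUnion.1 hcl
    have hsp : SymProd.permHom f d s.1 x ⤳ SymProd.permHom f d h.1 x := specializes_iff_mem_closure.2 hs
    have e0 : SymProd.permHom f d (h.1 * s.1⁻¹) (SymProd.permHom f d s.1 x) = SymProd.permHom f d h.1 x := by
      rw [← perm_mul_apply, inv_mul_cancel_right]
    rw [← e0] at hsp
    have he := eq_of_specializes f _ _ hsp
    rw [e0] at he
    have hfix : SymProd.permHom f d (h.1⁻¹ * s.1) x = x := by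
      rw [perm_mul_apply, ← he, ← perm_mul_apply, inv_mul_cancel, perm_one_apply]
    exact s.2 (by simpa using H.mul_mem h.2 (hstab _ hfix))
  obtain ⟨e₀, he₀O, he₀⟩ := GrpdQuot.exists_basicOpen_le_of_finite hA Hx (Set.finite_range _) hHxO hHxA
  obtain ⟨e, he, hele, hemem⟩ := exists_norm f hAst e₀
  let De := (SymProd.fibPow f d).basicOpen e
  have hxe : x ∈ De := hemem x hxA fun h hh => he₀ ⟨⟨h, hh⟩, rfl⟩
  have hbad : ∀ s, s ∉ H → SymProd.permHom f d s x ∉ De := fun s hs h =>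
    (he₀O (hele h)).2 (subset_closure ⟨⟨s, hs⟩, rfl⟩)
  have hDst : Fix.Stable f H Dc := Fix.stable_basicOpen f hB hc
  have hEst : Fix.Stable f H De := Fix.stable_basicOpen f hAst he
  have hDcA : Dc ≤ q ⁻¹ᵁ W := hcle.trans hc₀W
  have hDeDc : De ≤ Dc := fun z hz => (he₀O (hele hz)).1
  have hDcB : Dc ≤ B := Scheme.basicOpen_le _ _
  have hDeA : De ≤ q ⁻¹ᵁ W := Scheme.basicOpen_le _ _
  -- `De` is also basic in `B`
  obtain ⟨a, ha⟩ : ∃ a : Fix.fix f hB, De = (SymProd.fibPow f d).basicOpen (c * a.1) := by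
    letI := (Fix.res f hB hDst hDcB).toAlgebra
    haveI := Fix.isLocalization_res f hB hDst hBa ⟨c, hc⟩ hDcB rfl
    obtain ⟨n, a, ha⟩ := IsLocalization.Away.surj (⟨c, hc⟩ : Fix.fix f hB) (Fix.res f hAst hDst hDcA ⟨e, he⟩)
    have hu := IsLocalization.Away.algebraMap_isUnit (S := Fix.fix f hDst) (⟨c, hc⟩ : Fix.fix f hB)
    refine ⟨a, ?_⟩
    have h1 := congrArg (fun t => (SymProd.fibPow f d).basicOpen (Subtype.val t)) ha
    have hu' := ((hu.pow n).map (Fix.fix f hDst).subtype)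
    change (SymProd.fibPow f d).basicOpen
        ((SymProd.fibPow f d).presheaf.map (homOfLE hDcA).op e * Subtype.val (algebraMap _ (Fix.fix f hDst) _ ^ n)) =
      (SymProd.fibPow f d).basicOpen ((SymProd.fibPow f d).presheaf.map (homOfLE hDcB).op a.1) at h1
    rw [Scheme.basicOpen_mul, Scheme.basicOpen_res, Scheme.basicOpen_res,
      show Subtype.val (algebraMap (Fix.fix f hB) (Fix.fix f hDst) ⟨c, hc⟩ ^ n) =
        (Fix.fix f hDst).subtype (algebraMap (Fix.fix f hB) (Fix.fix f hDst) ⟨c, hc⟩ ^ n) from rfl,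
      Scheme.basicOpen_of_isUnit _ hu'] at h1
    rw [Scheme.basicOpen_mul]
    refine Eq.trans (le_antisymm ?_ (inf_le_left.trans inf_le_right)) h1
    exact le_inf (le_inf hDeDc le_rfl) hDeDc
  have hDeB : De ≤ B := hDeDc.trans hDcB
  have hflatN := Fix.flat_res f hB hEst hBa (⟨c, hc⟩ * a) hDeB ha hBV hflatB
  -- modules
  let AH := Fix.fix f hAst
  let N := Fix.fix f hEst
  letI : Algebra Γ(S, V) AH := (Fix.str f hAst hAV).toAlgebra
  letI : Algebra AH N := (Fix.res f hAst hEst hDeA).toAlgebra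
  letI : Algebra Γ(S, V) N := (Fix.str f hEst (hDeB.trans hBV)).toAlgebra
  haveI : IsScalarTower Γ(S, V) AH N := IsScalarTower.of_algebraMap_eq fun r => Subtype.ext <| by
    show (base f d).appLE V De _ r =
      (SymProd.fibPow f d).presheaf.map (homOfLE hDeA).op ((base f d).appLE V (q ⁻¹ᵁ W) hAV r)
    rw [← CommRingCat.comp_apply, Scheme.Hom.appLE_map]
  haveI : Module.Flat Γ(S, V) N := hflatN
  haveI := Fix.isLocalization_res f hAst hEst hA ⟨e, he⟩ hDeA rfl
  let j : Γ(Y, W) →ₐ[Γ(S, V)] AH :=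
    { __ := (q.app W).hom.codRestrict AH fun r => (Fix.mem_fix f hAst).2 fun σ _ => by
        rw [Fix.act, Scheme.Hom.app_eq_appLE, ← CommRingCat.comp_apply, Scheme.Hom.appLE_comp_appLE]
        simp only [show SymProd.permHom f d σ ≫ q = q from hq.isQuot.inv ⟨σ⟩]
      commutes' := fun r => Subtype.ext <| by
        show q.app W (g.appLE V W hWV r) = (base f d).appLE V (q ⁻¹ᵁ W) hAV r
        rw [Scheme.Hom.app_eq_appLE, ← CommRingCat.comp_apply, Scheme.Hom.appLE_comp_appLE]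
        simp only [hq.over] }
  let zA : AH ⊗[Γ(S, V)] I := j.toLinearMap.rTensor I z
  let ρ : AH →ₗ[Γ(S, V)] N := (IsScalarTower.toAlgHom Γ(S, V) AH N).toLinearMap
  have hzN : ρ.rTensor I zA = 0 := by
    refine (Module.Flat.iff_lTensor_injective'.1 hflatN I) ?_
    rw [map_zero, show zA = j.toLinearMap.rTensor I z from rfl]
    have h1 : ∀ w, LinearMap.lTensor N I.subtype (ρ.rTensor I (j.toLinearMap.rTensor I w)) =
        (ρ ∘ₗ j.toLinearMap).rTensor Γ(S, V) (LinearMap.lTensor Γ(Y, W) I.subtype w) := fun w => by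
      induction w using TensorProduct.induction_on with
      | zero => simp
      | add u v hu hv => simp only [map_add, hu, hv]
      | tmul u v => rfl
    rw [h1, hz, map_zero]
  obtain ⟨n, hn0, hn⟩ : ∃ n : ℕ, 0 < n ∧ (⟨e, he⟩ ^ n : AH) • zA = 0 := by
    haveI : IsLocalizedModule (Submonoid.powers (⟨e, he⟩ : AH)) (TensorProduct.mk AH N (AH ⊗[Γ(S, V)] I) 1) :=
      (isLocalizedModule_iff_isBaseChange _ N _).2 (TensorProduct.isBaseChange AH (AH ⊗[Γ(S, V)] I) N)
    have h1 : TensorProduct.AlgebraTensorModule.cancelBaseChange Γ(S, V) AH AH N I ((1 : N) ⊗ₜ[AH] zA) = 0 := by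
      rw [← hzN]
      generalize zA = w
      induction w using TensorProduct.induction_on with
      | zero => simp
      | add u v hu hv => simp only [TensorProduct.tmul_add, map_add, hu, hv]
      | tmul u v =>
        rw [TensorProduct.AlgebraTensorModule.cancelBaseChange_tmul, LinearMap.rTensor_tmul]
        congr 1
        rw [Algebra.smul_def, mul_one]
        rfl
    obtain ⟨⟨_, n, rfl⟩, hn⟩ :=
      (IsLocalizedModule.eq_zero_iff (Submonoid.powers (⟨e, he⟩ : AH)) (TensorProduct.mk AH N (AH ⊗[Γ(S, V)] I) 1)).1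
        ((LinearEquiv.map_eq_zero_iff _).1 h1)
    refine ⟨n + 1, n.succ_pos, ?_⟩
    rw [pow_succ', ← smul_smul, show (⟨e, he⟩ ^ n : AH) • zA = 0 from hn, smul_zero]
  -- the trace
  let σA : Equiv.Perm (Fin d) → (Γ(SymProd.fibPow f d, q ⁻¹ᵁ W) ⟶ Γ(SymProd.fibPow f d, q ⁻¹ᵁ W)) := fun s =>
    SchQuot.IsQuot.pull hq.isQuot.inv ⟨s⟩ W
  have hσA : ∀ s t a, σA t (σA s a) = σA (s * t) a := fun s t a =>
    congr($((SchQuot.IsQuot.pull_mul hq.isQuot W ⟨s⟩ ⟨t⟩).symm) a)
  let Q := Equiv.Perm (Fin d) ⧸ H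
  let tr : Q → (AH → Γ(SymProd.fibPow f d, q ⁻¹ᵁ W)) := fun b a =>
    Quotient.liftOn' b (fun s => σA s⁻¹ a.1) fun s s' h => by
      have h' : s⁻¹ * s' ∈ H := QuotientGroup.leftRel_apply.1 h
      have : σA s'⁻¹ a.1 = σA s⁻¹ (σA (s⁻¹ * s')⁻¹ a.1) := by rw [hσA]; congr 2; group
      rw [this]
      congr 1
      have h2 := (Fix.mem_fix f hAst).1 a.2 _ (H.inv_mem h')
      exact h2.symm
  have htr : ∀ a, (∑ b, tr b a) ∈ Set.range (q.app W).hom := fun a =>
    (hq.isQuot.range_iff W _).2 fun s => by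
      show σA s.down (∑ b, tr b a) = ∑ b, tr b a
      rw [map_sum]
      refine (Finset.sum_congr rfl fun b _ => ?_).trans
        (Equiv.sum_comp (MulAction.toPerm s.down⁻¹ : Equiv.Perm Q) fun b => tr b a)
      induction b using Quotient.inductionOn' with
      | h t =>
        show σA s.down (σA t⁻¹ a.1) = σA (s.down⁻¹ * t)⁻¹ a.1
        rw [hσA, mul_inv_rev, inv_inv]
  choose T hT using htr
  have hinj := hq.isQuot.injective W
  have htrmul : ∀ b r (a : AH), tr b (j r * a) = q.app W r * tr b a := fun b r a => by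
    induction b using Quotient.inductionOn' with
    | h t =>
      show σA t⁻¹ (q.app W r * a.1) = q.app W r * σA t⁻¹ a.1
      rw [map_mul]
      congr 1
      exact congr($(SchQuot.IsQuot.app_pull hq.isQuot W ⟨t⁻¹⟩) r)
  have htradd : ∀ b (a a' : AH), tr b (a + a') = tr b a + tr b a' := fun b a a' => by
    induction b using Quotient.inductionOn' with
    | h t => exact map_add _ _ _
  have hTmul : ∀ r a, T (j r * a) = r * T a := fun r a => hinj <| by
    rw [map_mul, hT, hT, Finset.mul_sum]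
    simp only [htrmul]
  let Tl : AH →ₗ[Γ(S, V)] Γ(Y, W) :=
    { toFun := T
      map_add' := fun a a' => hinj <| by
        rw [map_add, hT, hT, hT, ← Finset.sum_add_distrib]
        simp only [htradd]
      map_smul' := fun r a => by
        rw [RingHom.id_apply, Algebra.smul_def, Algebra.smul_def, ← hTmul, AlgHom.commutes] }
  let t := T (⟨e, he⟩ ^ n)
  have ht : t • z = 0 := by
    have h1 : ∀ w, Tl.rTensor I ((⟨e, he⟩ ^ n : AH) • j.toLinearMap.rTensor I w) = t • w := fun w => by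
      induction w using TensorProduct.induction_on with
      | zero => simp
      | add u v hu hv => simp only [map_add, smul_add, hu, hv]
      | tmul u v =>
        rw [LinearMap.rTensor_tmul, TensorProduct.smul_tmul', LinearMap.rTensor_tmul, TensorProduct.smul_tmul']
        congr 1
        show T ((⟨e, he⟩ ^ n : AH) * j u) = t * u
        rw [mul_comm, hTmul, mul_comm]
    rw [← h1 z, hn, map_zero]
  have htm : t ∈ m := hle (by simpa [ann] using ht)
  refine absurd htm ?_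
  have hQW : hW.primeIdealOf ⟨q x, hxA⟩ = P := by
    apply hW.fromSpec.isOpenEmbedding.injective
    rw [hW.fromSpec_primeIdealOf]
    exact hx
  intro htm'
  have h1 : q.app W t ∈ (hA.primeIdealOf ⟨x, hxA⟩).asIdeal := by
    by_contra h
    rw [← mem_basicOpen_iff_notMem hA _ hxA, ← Scheme.preimage_basicOpen] at h
    have := (mem_basicOpen_iff_notMem hW t hxA).1 h
    rw [hQW] at this
    exact this htm'
  rw [hT] at h1
  let P' := (hA.primeIdealOf ⟨x, hxA⟩).asIdeal
  have hone : tr (QuotientGroup.mk 1) (⟨e, he⟩ ^ n : AH) ∉ P' := by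
    have h2 : tr (QuotientGroup.mk 1) (⟨e, he⟩ ^ n : AH) = e ^ n := by
      show σA 1⁻¹ (e ^ n) = e ^ n
      rw [inv_one, show σA 1 = 𝟙 _ from SchQuot.IsQuot.pull_one hq.isQuot W]
      rfl
    rw [h2]
    exact fun h => (mem_basicOpen_iff_notMem hA e hxA).1 hxe ((hA.primeIdealOf ⟨x, hxA⟩).2.mem_of_pow_mem n h)
  rw [← Finset.add_sum_erase _ _ (Finset.mem_univ (QuotientGroup.mk 1 : Q))] at h1
  refine hone ((Ideal.add_mem_iff_left _ (Ideal.sum_mem _ fun b hb => ?_)).1 h1)
  have hb1 : b ≠ QuotientGroup.mk 1 := (Finset.mem_erase.1 hb).1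
  induction b using Quotient.inductionOn' with
  | h s =>
    have hs : s ∉ H := fun h => hb1 (QuotientGroup.eq.2 (by simpa using h))
    show σA s⁻¹ (e ^ n) ∈ P'
    rw [map_pow]
    refine Ideal.pow_mem_of_mem _ ?_ n hn0
    by_contra h
    rw [← mem_basicOpen_iff_notMem hA _ hxA] at h
    have h' : x ∈ (SymProd.fibPow f d).basicOpen
        ((SymProd.permActU f d ⟨s⁻¹⟩).hom.appLE (q ⁻¹ᵁ W) (q ⁻¹ᵁ W)
          (SGA1.preimage_le_of_inv _ q hq.isQuot.inv _ W) e) := h
    rw [Scheme.basicOpen_appLE] at h'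
    exact hbad s⁻¹ (fun h2 => hs (by simpa using H.inv_mem h2)) h'.2

theorem flat_symProd (d : ℕ) (q : SymProd.fibPow f d ⟶ Y) (g : Y ⟶ S) (hq : SymProd.IsSymProd f d q g) :
    AlgebraicGeometry.Flat g := by
  rcases Nat.eq_zero_or_pos d with rfl | hd
  · have := Groth.Agent.H81.SymProd.Quot.isIso_of_subsingleton hq.isQuot
    have := flat_base f 0
    have : AlgebraicGeometry.Flat (q ≫ g) := by rwa [hq.over]
    rw [← IsIso.inv_hom_id_assoc q g]
    infer_instance
  exact ⟨fun hV _ hW e => flat_app f hd hq hV hW e⟩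

end Groth.Agent.H81.SymProd2.Flat'
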