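import Groth.Agent.H81.SymProd.BaseChange
import Groth.Agent.H81.SymProd2.FixTensor

/-!
Products over the base of quotients by finite groups.
-/

set_option autoImplicit false
set_option linter.style.haveILetI false
universe u

open CategoryTheory CategoryTheory.Limits AlgebraicGeometry TopologicalSpace
open scoped TensorProduct

namespace Groth.Agent.H81.SymProd2.ProdQuot

open Groth.Agent.Lib Groth.Agent.H81.SymProd

variable {X Z S P Q : Scheme.{u}} (bX : X ⟶ S) (bZ : Z ⟶ S) (pP : P ⟶ S) (pQ : Q ⟶ S) {G H J : Type u}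
  [Group G] [Finite G] [Group H] [Finite H] [Group J] [Finite J]
  {α : G →* Aut X} {β : H →* Aut Z} {γ : J →* Aut (pullback bX bZ)} {qX : X ⟶ P} {qZ : Z ⟶ Q}
  (hqX : SGA1.IsQuot α qX) (hqZ : SGA1.IsQuot β qZ) (wX : qX ≫ pP = bX) (wZ : qZ ≫ pQ = bZ)
  (π : pullback bX bZ ⟶ pullback pP pQ) (hπ₁ : π ≫ pullback.fst pP pQ = pullback.fst bX bZ ≫ qX)
  (hπ₂ : π ≫ pullback.snd pP pQ = pullback.snd bX bZ ≫ qZ)
  (hinv : ∀ j, (γ j).hom ≫ π = π)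
  (ι₁ : G → J) (hι₁ : ∀ g, (γ (ι₁ g)).hom ≫ pullback.fst bX bZ = pullback.fst bX bZ ≫ (α g).hom ∧
    (γ (ι₁ g)).hom ≫ pullback.snd bX bZ = pullback.snd bX bZ)
  (ι₂ : H → J) (hι₂ : ∀ h, (γ (ι₂ h)).hom ≫ pullback.fst bX bZ = pullback.fst bX bZ ∧
    (γ (ι₂ h)).hom ≫ pullback.snd bX bZ = pullback.snd bX bZ ≫ (β h).hom)

theorem map_appLE_apply {A B C : Scheme.{u}} {f : A ⟶ B} {g : B ⟶ C} {k : A ⟶ C} (h : f ≫ g = k) {U : C.Opens}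
    {V : B.Opens} {W : A.Opens} (e₁ : V ≤ g ⁻¹ᵁ U) (e₂ : W ≤ f ⁻¹ᵁ V) (e₃ : W ≤ k ⁻¹ᵁ U) (x : Γ(C, U)) :
    f.appLE V W e₂ (g.appLE U V e₁ x) = k.appLE U W e₃ x := by
  subst h
  rw [← CommRingCat.comp_apply, Scheme.Hom.appLE_comp_appLE]

include hqX hqZ wX wZ hπ₁ hπ₂ hι₁ hι₂ in
omit [Finite J] in
set_option maxHeartbeats 1600000 in
/-- Over a product of affine opens the sections are the invariant ones. -/
theorem good (hcases : (Flat bX ∧ Flat bZ ∧ Flat pP) ∨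
      (IsUnit (Nat.card G : Γ(S, ⊤)) ∧ IsUnit (Nat.card H : Γ(S, ⊤))))
    {V : S.Opens} (hV : IsAffineOpen V) {W : P.Opens} (hW : IsAffineOpen W) (hWV : W ≤ pP ⁻¹ᵁ V)
    {W' : Q.Opens} (hW' : IsAffineOpen W') (hW'V : W' ≤ pQ ⁻¹ᵁ V) :
    IsAffineOpen (pullback.fst pP pQ ⁻¹ᵁ W ⊓ pullback.snd pP pQ ⁻¹ᵁ W') ∧
      IsAffineOpen (π ⁻¹ᵁ (pullback.fst pP pQ ⁻¹ᵁ W ⊓ pullback.snd pP pQ ⁻¹ᵁ W')) ∧
      Function.Injective (π.app (pullback.fst pP pQ ⁻¹ᵁ W ⊓ pullback.snd pP pQ ⁻¹ᵁ W')).hom ∧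
      ∀ s, (∀ j, SchQuot.IsQuot.pull hinv j
          (pullback.fst pP pQ ⁻¹ᵁ W ⊓ pullback.snd pP pQ ⁻¹ᵁ W') s = s) →
        s ∈ Set.range (π.app (pullback.fst pP pQ ⁻¹ᵁ W ⊓ pullback.snd pP pQ ⁻¹ᵁ W')).hom := by
  have := hqX.affine
  have := hqZ.affine
  have hA : IsAffineOpen (qX ⁻¹ᵁ W) := hW.preimage qX
  have hB : IsAffineOpen (qZ ⁻¹ᵁ W') := hW'.preimage qZ
  have hAV : qX ⁻¹ᵁ W ≤ bX ⁻¹ᵁ V := by
    rw [← wX, Scheme.Hom.comp_preimage]; exact qX.preimage_mono hWV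
  have hBV : qZ ⁻¹ᵁ W' ≤ bZ ⁻¹ᵁ V := by
    rw [← wZ, Scheme.Hom.comp_preimage]; exact qZ.preimage_mono hW'V
  have HY : IsPullback (pullback.fst pP pQ) (pullback.snd pP pQ) pP pQ := IsPullback.of_hasPullback pP pQ
  have HX : IsPullback (pullback.fst bX bZ) (pullback.snd bX bZ) bX bZ := IsPullback.of_hasPullback bX bZ
  set O := pullback.fst pP pQ ⁻¹ᵁ W ⊓ pullback.snd pP pQ ⁻¹ᵁ W' with hO
  have hpre : π ⁻¹ᵁ O = pullback.fst bX bZ ⁻¹ᵁ (qX ⁻¹ᵁ W) ⊓ pullback.snd bX bZ ⁻¹ᵁ (qZ ⁻¹ᵁ W') := by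
    rw [hO, Scheme.Hom.preimage_inf, ← Scheme.Hom.comp_preimage, ← Scheme.Hom.comp_preimage, hπ₁, hπ₂,
      Scheme.Hom.comp_preimage, Scheme.Hom.comp_preimage]
  refine ⟨BaseChange.isAffineOpen_of_isPullback HY hW'V hWV hV hW' hW,
    hpre ▸ BaseChange.isAffineOpen_of_isPullback HX hBV hAV hV hB hA, ?_⟩
  have hpoE := (isIso_pushoutSection_iff HY hW'V hWV hO).mp
    (isIso_pushoutSection_of_isAffineOpen HY hW'V hWV hO hV hW' hW)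
  have hpoC := (isIso_pushoutSection_iff HX hBV hAV hpre).mp
    (isIso_pushoutSection_of_isAffineOpen HX hBV hAV hpre hV hB hA)
  have hE₁ : O ≤ pullback.fst pP pQ ⁻¹ᵁ W := inf_le_left
  have hE₂ : O ≤ pullback.snd pP pQ ⁻¹ᵁ W' := inf_le_right
  have hC₁ : π ⁻¹ᵁ O ≤ pullback.fst bX bZ ⁻¹ᵁ (qX ⁻¹ᵁ W) := hpre.le.trans inf_le_left
  have hC₂ : π ⁻¹ᵁ O ≤ pullback.snd bX bZ ⁻¹ᵁ (qZ ⁻¹ᵁ W') := hpre.le.trans inf_le_right
  let := (pP.appLE V W hWV).hom.toAlgebra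
  let := (pQ.appLE V W' hW'V).hom.toAlgebra
  let := (bX.appLE V (qX ⁻¹ᵁ W) hAV).hom.toAlgebra
  let := (bZ.appLE V (qZ ⁻¹ᵁ W') hBV).hom.toAlgebra
  let := ((pullback.fst pP pQ).appLE W O hE₁).hom.toAlgebra
  let := ((pullback.snd pP pQ).appLE W' O hE₂).hom.toAlgebra
  let := ((pullback.fst bX bZ).appLE (qX ⁻¹ᵁ W) (π ⁻¹ᵁ O) hC₁).hom.toAlgebra
  let := ((pullback.snd bX bZ).appLE (qZ ⁻¹ᵁ W') (π ⁻¹ᵁ O) hC₂).hom.toAlgebra
  let : Algebra Γ(S, V) Γ(pullback pP pQ, O) :=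
    (((pullback.fst pP pQ).appLE W O hE₁).hom.comp (pP.appLE V W hWV).hom).toAlgebra
  let : Algebra Γ(S, V) Γ(pullback bX bZ, π ⁻¹ᵁ O) :=
    (((pullback.fst bX bZ).appLE (qX ⁻¹ᵁ W) (π ⁻¹ᵁ O) hC₁).hom.comp (bX.appLE V (qX ⁻¹ᵁ W) hAV).hom).toAlgebra
  have : IsScalarTower Γ(S, V) Γ(P, W) Γ(pullback pP pQ, O) := .of_algebraMap_eq fun _ => rfl
  have : IsScalarTower Γ(S, V) Γ(X, qX ⁻¹ᵁ W) Γ(pullback bX bZ, π ⁻¹ᵁ O) := .of_algebraMap_eq fun _ => rfl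
  have : IsScalarTower Γ(S, V) Γ(Q, W') Γ(pullback pP pQ, O) := .of_algebraMap_eq fun r => congr($(hpoE.w) r)
  have : IsScalarTower Γ(S, V) Γ(Z, qZ ⁻¹ᵁ W') Γ(pullback bX bZ, π ⁻¹ᵁ O) :=
    .of_algebraMap_eq fun r => congr($(hpoC.w) r)
  have : Algebra.IsPushout Γ(S, V) Γ(P, W) Γ(Q, W') Γ(pullback pP pQ, O) :=
    CommRingCat.isPushout_iff_isPushout.mp hpoE
  have : Algebra.IsPushout Γ(S, V) Γ(X, qX ⁻¹ᵁ W) Γ(Z, qZ ⁻¹ᵁ W') Γ(pullback bX bZ, π ⁻¹ᵁ O) :=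
    CommRingCat.isPushout_iff_isPushout.mp hpoC
  let e₁ := Algebra.IsPushout.equiv Γ(S, V) Γ(P, W) Γ(Q, W') Γ(pullback pP pQ, O)
  let e₂ := Algebra.IsPushout.equiv Γ(S, V) Γ(X, qX ⁻¹ᵁ W) Γ(Z, qZ ⁻¹ᵁ W') Γ(pullback bX bZ, π ⁻¹ᵁ O)
  let κ₁ : Γ(P, W) →ₐ[Γ(S, V)] Γ(X, qX ⁻¹ᵁ W) :=
    { __ := (qX.app W).hom
      commutes' := fun r => by
        show qX.app W (pP.appLE V W hWV r) = bX.appLE V (qX ⁻¹ᵁ W) hAV r
        rw [Scheme.Hom.app_eq_appLE]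
        exact map_appLE_apply wX _ _ _ r }
  let κ₂ : Γ(Q, W') →ₐ[Γ(S, V)] Γ(Z, qZ ⁻¹ᵁ W') :=
    { __ := (qZ.app W').hom
      commutes' := fun r => by
        show qZ.app W' (pQ.appLE V W' hW'V r) = bZ.appLE V (qZ ⁻¹ᵁ W') hBV r
        rw [Scheme.Hom.app_eq_appLE]
        exact map_appLE_apply wZ _ _ _ r }
  have hαb : ∀ g, (α g).hom ≫ bX = bX := fun g => by rw [← wX, ← Category.assoc, hqX.inv]
  have hβb : ∀ g, (β g).hom ≫ bZ = bZ := fun g => by rw [← wZ, ← Category.assoc, hqZ.inv]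
  let σ : G → (Γ(X, qX ⁻¹ᵁ W) →ₐ[Γ(S, V)] Γ(X, qX ⁻¹ᵁ W)) := fun g =>
    { __ := (SchQuot.IsQuot.pull hqX.inv g W).hom
      commutes' := fun r => map_appLE_apply (hαb g) _ _ _ r }
  let τ : H → (Γ(Z, qZ ⁻¹ᵁ W') →ₐ[Γ(S, V)] Γ(Z, qZ ⁻¹ᵁ W')) := fun g =>
    { __ := (SchQuot.IsQuot.pull hqZ.inv g W').hom
      commutes' := fun r => map_appLE_apply (hβb g) _ _ _ r }
  let A₀ := LinearMap.range κ₁.toLinearMap
  let B₀ := LinearMap.range κ₂.toLinearMap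
  have hA₀ : ∀ a, a ∈ A₀ ↔ ∀ g, (σ g).toLinearMap a = a := fun a => hqX.range_iff W a
  have hB₀ : ∀ b, b ∈ B₀ ↔ ∀ g, (τ g).toLinearMap b = b := fun b => hqZ.range_iff W' b
  let eA := LinearEquiv.ofInjective κ₁.toLinearMap (hqX.injective W)
  let eB := LinearEquiv.ofInjective κ₂.toLinearMap (hqZ.injective W')
  letI : Fintype G := Fintype.ofFinite G
  letI : Fintype H := Fintype.ofFinite H
  classical
  have key : Function.Injective (TensorProduct.map A₀.subtype B₀.subtype) ∧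
      ∀ z, (∀ i, (σ i).toLinearMap.rTensor _ z = z) → (∀ j, (τ j).toLinearMap.lTensor _ z = z) →
        z ∈ Set.range (TensorProduct.map A₀.subtype B₀.subtype) := by
    rcases hcases with ⟨_, _, _⟩ | ⟨hG, hH⟩
    · haveI : Module.Flat Γ(S, V) Γ(P, W) := pP.flat_appLE hV hW hWV
      haveI : Module.Flat Γ(S, V) Γ(Z, qZ ⁻¹ᵁ W') := bZ.flat_appLE hV hB hBV
      haveI : Module.Flat Γ(S, V) A₀ := Module.Flat.of_linearEquiv eA.symm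
      exact FixTensor.of_flat _ _ A₀ B₀ hA₀ hB₀
    · refine FixTensor.of_isUnit _ _ ?_ ?_ (fun j => ⟨Equiv.mulRight j, fun i => ?_⟩)
        (fun j => ⟨Equiv.mulRight j, fun i => ?_⟩) A₀ B₀ hA₀ hB₀
      · rw [Fintype.card_eq_nat_card]
        simpa using hG.map (S.presheaf.map (homOfLE (le_top : V ≤ ⊤)).op).hom
      · rw [Fintype.card_eq_nat_card]
        simpa using hH.map (S.presheaf.map (homOfLE (le_top : V ≤ ⊤)).op).hom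
      · exact LinearMap.ext fun a => congr($((SchQuot.IsQuot.pull_mul hqX W i j).symm) a)
      · exact LinearMap.ext fun a => congr($((SchQuot.IsQuot.pull_mul hqZ W' i j).symm) a)
  have hkey : ∀ z, π.app O (e₁ z) = e₂ (TensorProduct.map κ₁.toLinearMap κ₂.toLinearMap z) := fun z => by
    induction z using TensorProduct.induction_on with
    | zero => simp
    | add x y hx hy => simp only [map_add, hx, hy]
    | tmul a b =>
      rw [TensorProduct.map_tmul, Algebra.IsPushout.equiv_tmul, Algebra.IsPushout.equiv_tmul, map_mul]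
      show π.app O ((pullback.fst pP pQ).appLE W O hE₁ a) * π.app O ((pullback.snd pP pQ).appLE W' O hE₂ b) =
        (pullback.fst bX bZ).appLE (qX ⁻¹ᵁ W) (π ⁻¹ᵁ O) hC₁ (qX.app W a) *
          (pullback.snd bX bZ).appLE (qZ ⁻¹ᵁ W') (π ⁻¹ᵁ O) hC₂ (qZ.app W' b)
      simp only [Scheme.Hom.app_eq_appLE, ← CommRingCat.comp_apply, Scheme.Hom.appLE_comp_appLE, hπ₁, hπ₂]
  have hact₁ : ∀ g z, SchQuot.IsQuot.pull hinv (ι₁ g) O (e₂ z) = e₂ ((σ g).toLinearMap.rTensor _ z) := fun g z => by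
    induction z using TensorProduct.induction_on with
    | zero => simp
    | add x y hx hy => simp only [map_add, hx, hy]
    | tmul a b =>
      rw [LinearMap.rTensor_tmul, Algebra.IsPushout.equiv_tmul, Algebra.IsPushout.equiv_tmul, map_mul]
      show SchQuot.IsQuot.pull hinv (ι₁ g) O ((pullback.fst bX bZ).appLE (qX ⁻¹ᵁ W) (π ⁻¹ᵁ O) hC₁ a) *
          SchQuot.IsQuot.pull hinv (ι₁ g) O ((pullback.snd bX bZ).appLE (qZ ⁻¹ᵁ W') (π ⁻¹ᵁ O) hC₂ b) =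
        (pullback.fst bX bZ).appLE (qX ⁻¹ᵁ W) (π ⁻¹ᵁ O) hC₁ (SchQuot.IsQuot.pull hqX.inv g W a) *
          (pullback.snd bX bZ).appLE (qZ ⁻¹ᵁ W') (π ⁻¹ᵁ O) hC₂ b
      simp only [SchQuot.IsQuot.pull, ← CommRingCat.comp_apply, Scheme.Hom.appLE_comp_appLE, hι₁ g]
  have hact₂ : ∀ g z, SchQuot.IsQuot.pull hinv (ι₂ g) O (e₂ z) = e₂ ((τ g).toLinearMap.lTensor _ z) := fun g z => by
    induction z using TensorProduct.induction_on with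
    | zero => simp
    | add x y hx hy => simp only [map_add, hx, hy]
    | tmul a b =>
      rw [LinearMap.lTensor_tmul, Algebra.IsPushout.equiv_tmul, Algebra.IsPushout.equiv_tmul, map_mul]
      show SchQuot.IsQuot.pull hinv (ι₂ g) O ((pullback.fst bX bZ).appLE (qX ⁻¹ᵁ W) (π ⁻¹ᵁ O) hC₁ a) *
          SchQuot.IsQuot.pull hinv (ι₂ g) O ((pullback.snd bX bZ).appLE (qZ ⁻¹ᵁ W') (π ⁻¹ᵁ O) hC₂ b) =
        (pullback.fst bX bZ).appLE (qX ⁻¹ᵁ W) (π ⁻¹ᵁ O) hC₁ a *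
          (pullback.snd bX bZ).appLE (qZ ⁻¹ᵁ W') (π ⁻¹ᵁ O) hC₂ (SchQuot.IsQuot.pull hqZ.inv g W' b)
      simp only [SchQuot.IsQuot.pull, ← CommRingCat.comp_apply, Scheme.Hom.appLE_comp_appLE, hι₂ g]
  have hfac : TensorProduct.map κ₁.toLinearMap κ₂.toLinearMap =
      TensorProduct.map A₀.subtype B₀.subtype ∘ₗ (TensorProduct.congr eA eB).toLinearMap :=
    TensorProduct.ext' fun a b => rfl
  refine ⟨fun a b hab => ?_, fun s hs => ?_⟩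
  · obtain ⟨a, rfl⟩ := e₁.surjective a
    obtain ⟨b, rfl⟩ := e₁.surjective b
    rw [hkey, hkey, hfac] at hab
    rw [(TensorProduct.congr eA eB).injective (key.1 (e₂.injective hab))]
  · obtain ⟨z, rfl⟩ := e₂.surjective s
    obtain ⟨w, rfl⟩ := key.2 z (fun g => e₂.injective ((hact₁ g z).symm.trans (hs _)))
      (fun g => e₂.injective ((hact₂ g z).symm.trans (hs _)))
    refine ⟨e₁ ((TensorProduct.congr eA eB).symm w), ?_⟩
    rw [hkey, hfac, LinearMap.comp_apply, LinearEquiv.coe_coe, LinearEquiv.apply_symm_apply]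

include hqX hqZ wX wZ hπ₁ hπ₂ hι₁ hι₂ hinv in
/-- The product over the base of two quotients is a quotient. -/
theorem isQuot (hcases : (Flat bX ∧ Flat bZ ∧ Flat pP) ∨
      (IsUnit (Nat.card G : Γ(S, ⊤)) ∧ IsUnit (Nat.card H : Γ(S, ⊤)))) :
    SGA1.IsQuot γ π := by
  have cover : ∀ y : ↥(pullback pP pQ), ∃ O : (pullback pP pQ).Opens, y ∈ O ∧ IsAffineOpen O ∧
      IsAffineOpen (π ⁻¹ᵁ O) ∧ Function.Injective (π.app O).hom ∧
        ∀ s, (∀ j, SchQuot.IsQuot.pull hinv j O s = s) → s ∈ Set.range (π.app O).hom := by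
    intro y
    obtain ⟨_, ⟨V, hV, rfl⟩, hy, -⟩ := S.isBasis_affineOpens.exists_subset_of_mem_open
      (Set.mem_univ (pP (pullback.fst pP pQ y))) isOpen_univ
    obtain ⟨_, ⟨W, hW, rfl⟩, hyW, hWV⟩ := P.isBasis_affineOpens.exists_subset_of_mem_open
      (show pullback.fst pP pQ y ∈ pP ⁻¹ᵁ V from hy) (pP ⁻¹ᵁ V).isOpen
    have hb : pQ (pullback.snd pP pQ y) ∈ V := by
      rw [← Scheme.Hom.comp_apply, ← pullback.condition, Scheme.Hom.comp_apply]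
      exact hy
    obtain ⟨_, ⟨W', hW', rfl⟩, hyW', hW'V⟩ := Q.isBasis_affineOpens.exists_subset_of_mem_open
      (show pullback.snd pP pQ y ∈ pQ ⁻¹ᵁ V from hb) (pQ ⁻¹ᵁ V).isOpen
    exact ⟨pullback.fst pP pQ ⁻¹ᵁ W ⊓ pullback.snd pP pQ ⁻¹ᵁ W', ⟨hyW, hyW'⟩,
      good bX bZ pP pQ hqX hqZ wX wZ π hπ₁ hπ₂ hinv ι₁ hι₁ ι₂ hι₂ hcases hV hW hWV hW' hW'V⟩
  choose O hyO hOa hOpre hinj hrange using cover
  have : IsAffineHom π := isAffineHom_of_forall_exists_isAffineOpen _ fun y => ⟨O y, hyO y, hOa y, hOpre y⟩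
  refine SchQuot.Local.isQuot_of_basis
    (B := {V : (pullback pP pQ).Opens | IsAffineOpen V ∧ ∃ y, V ≤ O y}) ?_ hinv
    (fun V ⟨hV, y, h⟩ => (BaseChange.good_of_le hinv (hOa y) hV h (hinj y) (hrange y)).1)
    (fun V ⟨hV, y, h⟩ => (BaseChange.good_of_le hinv (hOa y) hV h (hinj y) (hrange y)).2)
  refine Opens.isBasis_iff_nbhd.mpr fun {W x} hx => ?_
  obtain ⟨_, ⟨V, hV, rfl⟩, hxV, hVW⟩ := (pullback pP pQ).isBasis_affineOpens.exists_subset_of_mem_open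
    (show x ∈ W ⊓ O x from ⟨hx, hyO x⟩) (W ⊓ O x).isOpen
  exact ⟨V, ⟨hV, x, fun z hz => (hVW hz).2⟩, hxV, fun z hz => (hVW hz).1⟩

end Groth.Agent.H81.SymProd2.ProdQuot
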